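import Cfsg.Agent.SimpleFacts.MinIndexPSUThree.Plane

/-!
# `SU₃(q)` on its isotropic points: orders, fixed points, transvection groups
-/

set_option autoImplicit false
set_option linter.unusedSectionVars false
set_option linter.unusedSimpArgs false

namespace Cfsg.Agent.SimpleFacts.MinIndexPSUThree.Group

open Matrix Cfsg.Agent.Classical Cfsg.Agent.Classical.Unitary Cfsg.Agent.Forms
open Cfsg.Agent.SimpleFacts.MinIndexPSUThree.Borel
open Cfsg.Agent.SimpleFacts.MinIndexPSUThree.Plane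

universe u

variable {F : Type u} [Field F] [Fintype F] {q : ℕ}

local notation "Vec" => (Fin 3 → F)
local notation "H" => Cfsg.hermForm 3 F q
local notation "SU3" => Cfsg.SU 3 F q
local notation "Pt" => IsoPt F q 3

/-- The elements fixing a vector. -/
def Ue (F : Type u) [Field F] [Fintype F] (q : ℕ) (e : Fin 3 → F) : Subgroup (Cfsg.SU 3 F q) where
  carrier := {u | mat u *ᵥ e = e}
  one_mem' := by
    show mat (1 : Cfsg.SU 3 F q) *ᵥ e = e
    rw [mat_one, Matrix.one_mulVec]
  mul_mem' := by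
    intro a b ha hb
    show mat (a * b) *ᵥ e = e
    rw [mul_mulVec, hb, ha]
  inv_mem' := by
    intro a ha
    show mat a⁻¹ *ᵥ e = e
    conv_lhs => rw [← show mat a *ᵥ e = e from ha]
    rw [← mul_mulVec, inv_mul_cancel, mat_one, Matrix.one_mulVec]

/-- The elements fixing `e` and every vector orthogonal to `e`. -/
def Zg (F : Type u) [Field F] [Fintype F] (q : ℕ) (e : Fin 3 → F) : Subgroup (Cfsg.SU 3 F q) :=
  Ue F q e ⊓ ⨅ x : {x : Fin 3 → F // Cfsg.hermForm 3 F q x e = 0}, Ue F q x.1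

theorem mem_Ue {e : Vec} {u : SU3} : u ∈ Ue F q e ↔ mat u *ᵥ e = e := Iff.rfl

theorem mem_Zg {e : Vec} {u : SU3} :
    u ∈ Zg F q e ↔ mat u *ᵥ e = e ∧ ∀ x, H x e = 0 → mat u *ᵥ x = x := by
  simp [Zg, Subgroup.mem_iInf, mem_Ue]

theorem Zg_le_Ue (e : Vec) : Zg F q e ≤ Ue F q e := inf_le_left

/-- The scalar on `e`. -/
noncomputable def coef (B : Frame F q) : fixLine F q B.e →* Fˣ :=
  MonoidHom.toHomUnits
    { toFun := fun k => Cfsg.hermForm 3 F q (mat (k : Cfsg.SU 3 F q) *ᵥ B.e) B.f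
      map_one' := by rw [OneMemClass.coe_one, mat_one, Matrix.one_mulVec, B.hef]
      map_mul' := fun k l => by
        obtain ⟨a, -, ha⟩ := l.2
        rw [Subgroup.coe_mul, mul_mulVec, ha, Matrix.mulVec_smul, H_smul_left, H_smul_left, B.hef,
          mul_one, mul_comm] }

theorem coef_apply (B : Frame F q) (k : fixLine F q B.e) :
    (coef B k : F) = H (mat (k : SU3) *ᵥ B.e) B.f := rfl

theorem coef_spec (B : Frame F q) (k : fixLine F q B.e) :
    mat (k : SU3) *ᵥ B.e = (coef B k : F) • B.e := by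
  obtain ⟨a, -, ha⟩ := k.2
  rw [coef_apply, ha, H_smul_left, B.hef, mul_one]

theorem coef_eq (B : Frame F q) (k : fixLine F q B.e) {a : F} (h : mat (k : SU3) *ᵥ B.e = a • B.e) :
    (coef B k : F) = a := by rw [coef_apply, h, H_smul_left, B.hef, mul_one]

theorem ker_coef (B : Frame F q) (k : fixLine F q B.e) : coef B k = 1 ↔ (k : SU3) ∈ Ue F q B.e := by
  constructor
  · intro h
    rw [mem_Ue, coef_spec B k, h, Units.val_one, one_smul]
  · intro h
    exact Units.ext (coef_eq B k (a := 1) (by rw [one_smul]; exact h))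

theorem Ue_le_fixLine (e : Vec) : Ue F q e ≤ fixLine F q e :=
  fun _ hu => ⟨1, one_ne_zero, by rw [one_smul]; exact hu⟩

theorem mem_fixLine_iff {e : Vec} (he : e ≠ 0) (hee : H e e = 0) {k : SU3} :
    k ∈ fixLine F q e ↔ k • pt (q := q) e he hee = pt e he hee := by
  rw [smul_pt, pt_eq_pt]
  constructor
  · rintro ⟨b, -, hk⟩; exact ⟨b, hk.symm⟩
  · rintro ⟨a, ha⟩
    exact ⟨a, fun h => mat_mulVec_ne_zero k he (by rw [← ha, h, zero_smul]), ha.symm⟩

variable (hF : Fintype.card F = q ^ 2)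

include hF

theorem mem_Zg_iff (B : Frame F q) {u : SU3} :
    u ∈ Zg F q B.e ↔ mat u *ᵥ B.e = B.e ∧ phi B u = 0 := by
  rw [mem_Zg]
  constructor
  · rintro ⟨h1, h2⟩
    exact ⟨h1, by rw [phi, h2 _ B.hwe, B.hwf]⟩
  · rintro ⟨h1, h2⟩
    refine ⟨h1, fun x hx => ?_⟩
    conv_lhs => rw [decomp hF B x, hx, zero_smul, add_zero, Matrix.mulVec_add, Matrix.mulVec_smul,
      Matrix.mulVec_smul, h1, unip_w hF B h1, h2, zero_smul, add_zero]
    conv_rhs => rw [decomp hF B x, hx, zero_smul, add_zero]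

/-- The coordinate homomorphism. -/
noncomputable def phiHom (B : Frame F q) : Ue F q B.e →* Multiplicative F where
  toFun u := Multiplicative.ofAdd (phi B (u : SU3))
  map_one' := by rw [OneMemClass.coe_one, phi_one hF B]; rfl
  map_mul' u v := by rw [Subgroup.coe_mul, phi_mul hF B u.2 v.2]; rfl

theorem phiHom_eq_one (B : Frame F q) (u : Ue F q B.e) :
    phiHom hF B u = 1 ↔ (u : SU3) ∈ Zg F q B.e := by
  rw [mem_Zg_iff hF B]
  exact ⟨fun h => ⟨u.2, Multiplicative.ofAdd.injective h⟩, fun h => congrArg Multiplicative.ofAdd h.2⟩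

variable {p : ℕ} [Fact p.Prime] [CharP F p]

theorem pow_p (B : Frame F q) {u : SU3} (hu : u ∈ Ue F q B.e) : ∃ k : ℕ, u ^ p ^ k = 1 :=
  UnitaryThreeSections.uni_pow hF (uni hF B hu)

include p in
/-- A nontrivial element fixing `e` fixes no other point. -/
theorem fixes_unique (B : Frame F q) {u : SU3} (hu : u ∈ Ue F q B.e) (hu1 : u ≠ 1) (y : Pt) :
    u • y = y ↔ y = pt B.e (e_ne B) B.he := by
  constructor
  · intro hy
    obtain ⟨x, hx0, hxx, rfl⟩ := exists_pt y
    obtain ⟨k, hk⟩ := pow_p (p := p) hF B hu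
    have hnil := UnitaryThreeSections.sub_one_nilpotent (p := p) hk
    obtain ⟨v, hv0, -, -, huniq⟩ := UnitaryThreeSections.exists_fixed hF hnil hu1
    rw [smul_pt, pt_eq_pt] at hy
    obtain ⟨a, ha⟩ := hy
    have ha1 := UnitaryThreeSections.eq_one_of_smul hnil hx0 ha.symm
    subst ha1
    rw [one_smul] at ha
    obtain ⟨c, hc⟩ := huniq x hxx ha.symm
    obtain ⟨d, hd⟩ := huniq B.e B.he hu
    have hd0 : d ≠ 0 := fun h => e_ne B (by rw [hd, h, zero_smul])
    rw [pt_eq_pt]
    exact ⟨c / d, by rw [hd, smul_smul, div_mul_cancel₀ _ hd0, ← hc]⟩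
  · rintro rfl
    exact (mem_fixLine_iff (e_ne B) B.he).1 (Ue_le_fixLine _ hu)

theorem card_traceZero : Nat.card {c : F // c + c ^ q = 0} = q := by
  classical
  let T : F →+ F := AddMonoidHom.id F + (HermStd.qHom hF).toAddMonoidHom
  have hker : Nat.card {c : F // c + c ^ q = 0} = Nat.card T.ker :=
    Nat.card_congr (Equiv.subtypeEquivRight fun c => by simp [T, HermStd.qHom_apply])
  have hrange : (T.range : Set F) = (fixField hF : Set F) := by
    ext x
    simp only [AddMonoidHom.coe_range, Set.mem_range, SetLike.mem_coe, mem_fixField]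
    constructor
    · rintro ⟨y, rfl⟩
      simp [T, HermStd.qHom_apply, HermStd.add_pow_q hF, pow_qq hF, add_comm]
    · intro hx
      obtain ⟨y, hy⟩ := exists_trace_eq hF hx
      exact ⟨y, by simp [T, HermStd.qHom_apply, hy]⟩
  have hcr : Nat.card T.range = q :=
    (Nat.card_congr (Equiv.setCongr hrange)).trans (natCard_fixField hF)
  have := T.ker.card_mul_index
  rw [AddSubgroup.index_ker, hcr, Nat.card_eq_fintype_card (α := F), hF, pow_two] at this
  rw [hker]
  exact Nat.eq_of_mul_eq_mul_right (Nat.pos_of_ne_zero (q_ne_zero hF)) this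

theorem tau_traceZero (B : Frame F q) {u : SU3} (hu : u ∈ Zg F q B.e) :
    tau B u + tau B u ^ q = 0 := by
  obtain ⟨h1, h2⟩ := (mem_Zg_iff hF B).1 hu
  rw [tau_add_conj hF B h1, h2, zero_pow (Nat.succ_ne_zero q), neg_zero]

theorem tvu_mem_Zg (B : Frame F q) {c : F} (hc : c + c ^ q = 0) :
    tvu hF B.he hc ∈ Zg F q B.e ∧ tau B (tvu hF B.he hc) = c := by
  refine ⟨mem_Zg.2 ⟨?_, fun x hx => ?_⟩, ?_⟩
  · rw [tvu_mulVec, B.he, mul_zero, zero_smul, add_zero]
  · rw [tvu_mulVec, hx, mul_zero, zero_smul, add_zero]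
  · rw [tau, tvu_mulVec, H_add_left, H_smul_left, B.hf, B.hef, hfe hF B, zero_add, mul_one, mul_one]

theorem card_Zg (B : Frame F q) : Nat.card (Zg F q B.e) = q := by
  refine (Nat.card_eq_of_bijective
    (fun u : Zg F q B.e =>
      (⟨tau B (u : SU3), tau_traceZero hF B u.2⟩ : {c : F // c + c ^ q = 0}))
    ⟨?_, ?_⟩).trans (card_traceZero hF)
  · intro u v h
    obtain ⟨u1, u2⟩ := (mem_Zg_iff hF B).1 u.2
    obtain ⟨v1, v2⟩ := (mem_Zg_iff hF B).1 v.2
    exact Subtype.ext (unip_ext hF B u1 v1 (u2.trans v2.symm) (congrArg Subtype.val h))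
  · rintro ⟨c, hc⟩
    exact ⟨⟨_, (tvu_mem_Zg hF B hc).1⟩, Subtype.ext (tvu_mem_Zg hF B hc).2⟩

theorem card_isoPt : Nat.card Pt = q ^ 3 + 1 := by
  classical
  let Φ : Pt × Fˣ → {v : Vec // v ≠ 0 ∧ H v v = 0} := fun x =>
    ⟨(x.2 : F) • x.1.1.rep, smul_ne_zero x.2.ne_zero x.1.1.rep_nonzero,
      by rw [UnitaryCount.hermForm_smul_smul, x.1.2, mul_zero]⟩
  have hbij : Function.Bijective Φ := by
    constructor
    · rintro ⟨x, a⟩ ⟨x', a'⟩ h
      have h' : (a : F) • x.1.rep = (a' : F) • x'.1.rep := congrArg Subtype.val h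
      have hxx : x = x' := by
        apply Subtype.ext
        rw [← Projectivization.mk_rep x.1, ← Projectivization.mk_rep x'.1,
          Projectivization.mk_eq_mk_iff']
        exact ⟨(a : F)⁻¹ * a', by rw [mul_smul, ← h', inv_smul_smul₀ a.ne_zero]⟩
      subst hxx
      rw [Units.ext (smul_left_injective F x.1.rep_nonzero h')]
    · rintro ⟨v, hv, hvv⟩
      obtain ⟨a, ha, hrep⟩ := rep_mk v hv
      refine ⟨(pt v hv hvv, Units.mk0 a⁻¹ (inv_ne_zero ha)), Subtype.ext ?_⟩
      show a⁻¹ • (Projectivization.mk F v hv).rep = v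
      rw [hrep, inv_smul_smul₀ ha]
  have h := Nat.card_eq_of_bijective Φ hbij
  rw [Nat.card_prod, natCard_units_F hF] at h
  have hc : Nat.card {v : Vec // H v v = 0} = (q ^ 3 + 1) * (q ^ 2 - 1) + 1 := by
    have := UnitaryCount.cnt_zero_eq (n := 3) hF
    simpa [UnitaryCount.cnt, show ¬ Even 3 by decide] using this
  have hsplit : Nat.card {v : Vec // v ≠ 0 ∧ H v v = 0} + 1 = Nat.card {v : Vec // H v v = 0} := by
    simp only [Nat.card_eq_fintype_card, Fintype.card_subtype]
    rw [show (Finset.univ.filter fun v : Vec => v ≠ 0 ∧ H v v = 0) =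
      (Finset.univ.filter fun v : Vec => H v v = 0).erase 0 by ext v; simp,
      Finset.card_erase_add_one (by simp [H_zero_left])]
  have hq := HermStd.one_lt_q hF
  rw [hc] at hsplit
  have e : q ^ 2 - 1 = (q - 1) * (q + 1) := by rw [mul_comm, ← Nat.sq_sub_sq, one_pow]
  refine Nat.eq_of_mul_eq_mul_right (show 0 < (q - 1) * (q + 1) by positivity [Nat.sub_pos_of_lt hq]) ?_
  rw [h, ← e]
  omega

theorem card_SU : Nat.card SU3 = q ^ 3 * (q ^ 3 + 1) * (q ^ 2 - 1) := by
  have h := natCard_SU_mul hF (n := 3) (by norm_num)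
  rw [natCard_GU hF] at h
  simp only [Finset.prod_range_succ, Finset.prod_range_zero, one_mul] at h
  norm_num [show ¬ Even 1 by decide, show Even 2 by decide, show Even 0 by decide] at h
  refine Nat.eq_of_mul_eq_mul_left (show 0 < q + 1 by omega) ?_
  rw [h]
  ring

omit p in
theorem card_fixLine (B : Frame F q) :
    Nat.card (fixLine F q B.e) = q ^ 3 * (q ^ 2 - 1) := by
  have htr := su_isPretransitive (n := 3) hF
  have hst : MulAction.stabilizer SU3 (pt B.e (e_ne B) B.he : Pt) = fixLine F q B.e := by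
    ext k
    rw [MulAction.mem_stabilizer_iff, mem_fixLine_iff (e_ne B) B.he]
  have h := (fixLine F q B.e).card_mul_index
  conv at h => lhs; arg 2; rw [← hst, MulAction.index_stabilizer_of_transitive, card_isoPt hF]
  rw [card_SU hF] at h
  refine Nat.eq_of_mul_eq_mul_right (show 0 < q ^ 3 + 1 by omega) ?_
  rw [h]
  ring

/-- A group containing every transvection group is everything. -/
theorem eq_top_of_Zg (h32 : q ≠ 2) (K : Subgroup SU3)
    (h : ∀ B : Frame F q, Zg F q B.e ≤ K) : K = ⊤ := by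
  rw [eq_top_iff, ← tvGroup_eq_top hF (n := 3) (by norm_num) (fun h => h32 h.2), tvGroup,
    Subgroup.closure_le]
  rintro g ⟨v, c, hv, hc, hg⟩
  by_cases hv0 : v = 0
  · have : g = 1 := SU_ext fun x => by
      rw [hg, HermStd.transvection_mulVec, hv0, mat_one, one_mulVec]; simp
    rw [this]; exact one_mem _
  obtain ⟨B, hB⟩ := exists_frame hF hv hv0
  refine h B (mem_Zg.2 ⟨?_, fun x hx => ?_⟩)
  · rw [hg, HermStd.transvection_mulVec, hB, hv]; simp
  · rw [hg, HermStd.transvection_mulVec, ← hB, hx]; simp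

end Cfsg.Agent.SimpleFacts.MinIndexPSUThree.Group
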