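import Cfsg.Agent.SimpleFacts.MinIndexPSUThree.Primes

/-!
# The fields with 3, 8, 9 and 11 elements
-/

set_option autoImplicit false
set_option linter.unusedSectionVars false
set_option linter.unusedSimpArgs false

namespace Cfsg.Agent.SimpleFacts.MinIndexPSUThree.SmallQ

open Matrix Cfsg.Agent.Classical Cfsg.Agent.Classical.Unitary Cfsg.Agent.Forms
open Cfsg.Agent.SimpleFacts.MinIndexPSUThree.Borel
open Cfsg.Agent.SimpleFacts.MinIndexPSUThree.Plane
open Cfsg.Agent.SimpleFacts.MinIndexPSUThree.Group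
open Cfsg.Agent.SimpleFacts.MinIndexPSUThree.Sub
open Cfsg.Agent.SimpleFacts.MinIndexPSUThree.Primes

universe u

variable {F : Type u} [Field F] [Fintype F] {q : ℕ} (hF : Fintype.card F = q ^ 2)

local notation "Vec" => (Fin 3 → F)
local notation "H" => Cfsg.hermForm 3 F q
local notation "SU3" => Cfsg.SU 3 F q
local notation "Pt" => IsoPt F q 3

theorem divisors_one {n b r : ℕ} {S : Finset ℕ} (hn : n ∣ b) (hb : b ≠ 0) (hr : n % r = 1)
    (hS : b.divisors.filter (fun k => k % r = 1) = S) : n ∈ S :=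
  hS ▸ Finset.mem_filter.2 ⟨Nat.mem_divisors.2 ⟨hn, hb⟩, hr⟩

variable (p : ℕ) [Fact p.Prime] [CharP F p] {K : Subgroup (Cfsg.SU 3 F q)}
  (hbig : q ^ 3 * (q ^ 2 - 1) < Nat.card K) (B : Frame F q)

include hF p hbig

omit [CharP F p] hbig in
theorem card_K_split {x : ℕ} (hK : Nat.card K = x) {r c : ℕ} (h : x = r * c) :
    Nat.card K = r * c := hK.trans h

/-- `q = 3`. -/
theorem three (hq : q = 3) (hQ : Nat.card ↥(K ⊓ Ue F q B.e) = 1) (hC : Nat.card (Cs K B) = 8) :
    False := by
  have hK : Nat.card K = 7 * 32 := by rw [card_eq K B hF p hbig, hQ, hC]; subst hq; norm_num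
  obtain ⟨g, hg, n, hn, hn1, hnc⟩ := sylow_data (G := K) (r := 7) (c := 32) (by norm_num) hK (by norm_num)
  set N := Subgroup.normalizer (Subgroup.zpowers g : Set K) with hN
  have hmem := divisors_one hn (by norm_num) hn1 (S := {1, 8}) (by decide)
  have h4 : 2 ^ 2 ∣ Nat.card N := by
    simp only [Finset.mem_insert, Finset.mem_singleton] at hmem
    rcases hmem with rfl | rfl <;> omega
  have : Fact (Nat.Prime 2) := ⟨Nat.prime_two⟩
  obtain ⟨R, hR⟩ := Sylow.exists_subgroup_card_pow_prime 2 h4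
  have hR' : Nat.card (R.map N.subtype) = 4 := by
    rw [Subgroup.card_map_of_injective N.subtype_injective, hR]; norm_num
  obtain ⟨u, hu, hu1, huc⟩ := Orbits.exists_commute (by norm_num : Nat.Prime 7) hg (R.map N.subtype)
    (fun u hu => (Subgroup.mem_normalizer_iff.1 (Subgroup.map_subtype_le R hu) g).1
      (Subgroup.mem_zpowers g)) (by rw [hR']; decide)
  have hu4 : u ^ 4 = 1 := by
    have := congrArg Subtype.val (pow_card_eq_one' (G := ↥(R.map N.subtype)) (x := ⟨u, hu⟩))
    rwa [hR'] at this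
  obtain ⟨t, ht1, ht2, htc⟩ : ∃ t : K, t ≠ 1 ∧ t * t = 1 ∧ t * g = g * t := by
    by_cases h : u * u = 1
    · exact ⟨u, hu1, h, huc⟩
    · refine ⟨u * u, h, ?_, (Commute.mul_left huc huc).eq⟩
      rw [show u * u * (u * u) = u ^ 4 by simp [pow_succ, mul_assoc], hu4]
  obtain ⟨hne, hle⟩ := invol_fixed hF (hq ▸ (by decide : Odd 3)) (t := (t : SU3))
    (fun h => ht1 (Subtype.ext h)) (by have := congrArg Subtype.val ht2; exact this)
  obtain ⟨y, hy⟩ := hne
  have : Finite Pt := Nat.finite_of_card_ne_zero (by rw [card_isoPt hF]; omega)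
  refine no_fixed hF p hbig B g.2 ((Subgroup.orderOf_coe g).trans hg) ?_ y ?_
  · rw [card_Stab, hQ, hC]; norm_num
  · refine fix_small (r := 7) (by norm_num) ?_ {z : Pt | (t : SU3) • z = z} (Set.toFinite _) (by omega)
      (fun z hz => ?_) hy
    · have := congrArg Subtype.val (hg ▸ pow_orderOf_eq_one g : g ^ 7 = 1)
      exact this
    · show (t : SU3) • ((g : SU3) • z) = (g : SU3) • z
      rw [← mul_smul, show (t : SU3) * g = g * t from congrArg Subtype.val htc, mul_smul, hz]

/-- `q = 11`. -/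
theorem eleven (hq : q = 11) (hp : p = 11) (hQ : Nat.card ↥(K ⊓ Ue F q B.e) = 11)
    (hC : Nat.card (Cs K B) = 30) (hZ : Subgroup.center SU3 ≤ K) : False := by
  have hK : Nat.card K = 37 * 11880 := by rw [card_eq K B hF p hbig, hQ, hC]; subst hq; norm_num
  obtain ⟨g, hg, n, hn, hn1, hnc⟩ :=
    sylow_data (G := K) (r := 37) (c := 11880) (by norm_num) hK (by norm_num)
  have hr : ¬ 37 ∣ Nat.card (Stab K B) := by rw [card_Stab, hQ, hC]; norm_num
  set N := Subgroup.normalizer (Subgroup.zpowers g : Set K) with hN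
  let Z : Subgroup K := (Subgroup.center SU3).subgroupOf K
  have hZc : Nat.card Z = 3 := by
    rw [Nat.card_congr (Subgroup.subgroupOfEquivOfLe hZ).toEquiv, natCard_center hF (by norm_num), hq]
    decide
  have hZcent : ∀ z ∈ Z, ∀ x : K, z * x = x * z := fun z hz x =>
    Subtype.ext (Subgroup.mem_center_iff.1 hz (x : SU3)).symm
  let T : Subgroup K := Subgroup.centralizer (Subgroup.zpowers g : Set K)
  have hZT : Z ≤ T := fun z hz => Subgroup.mem_centralizer_iff.2 fun x _ => (hZcent z hz x).symm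
  have hgT : Subgroup.zpowers g ≤ T := fun x hx => Subgroup.mem_centralizer_iff.2 fun y hy => by
    obtain ⟨i, rfl⟩ := hx
    obtain ⟨j, rfl⟩ := hy
    exact Commute.zpow_zpow_self g j i
  have hTN : T ≤ N := Subgroup.centralizer_le_normalizer _
  have h3 : 3 ∣ Nat.card T := by
    have := Subgroup.card_dvd_of_le hZT
    rwa [hZc] at this
  have h37 : 37 ∣ Nat.card T := by
    have := Subgroup.card_dvd_of_le hgT
    rwa [Nat.card_zpowers, hg] at this
  have h111 : 111 ∣ Nat.card T := Nat.Coprime.mul_dvd_of_dvd_of_dvd (by norm_num : Nat.Coprime 3 37) h3 h37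
  have hTdvd : Nat.card T ∣ Nat.card N := Subgroup.card_dvd_of_le hTN
  have hn' : n ∣ 3960 := by
    obtain ⟨a, ha⟩ := h111.trans hTdvd
    rw [ha, mul_assoc, mul_comm a] at hnc
    exact ⟨a, by omega⟩
  have hmem := divisors_one hn' (by norm_num) hn1 (S := {1, 3960}) (by decide +kernel)
  simp only [Finset.mem_insert, Finset.mem_singleton] at hmem
  rcases hmem with rfl | rfl
  · refine not_normal hF p hbig B (by norm_num) hg hr (by rw [hQ]; norm_num) ?_
    exact Subgroup.eq_top_of_card_eq N (by rw [hK]; omega)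
  · have hNc : Nat.card N = 111 := by omega
    have hTN' : T = N := Subgroup.eq_of_le_of_card_ge hTN
      (by rw [hNc]; exact Nat.le_of_dvd Nat.card_pos h111)
    have : Fact (Nat.Prime 37) := ⟨by norm_num⟩
    have hfac : (Nat.card K).factorization 37 = 1 := by
      rw [hK, Nat.factorization_mul (by norm_num) (by norm_num), Finsupp.add_apply,
        (by norm_num : Nat.Prime 37).factorization_self, Nat.factorization_eq_zero_of_not_dvd (by norm_num)]
    let P : Sylow 37 K := Sylow.ofCard (Subgroup.zpowers g) (by rw [Nat.card_zpowers, hg, hfac, pow_one])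
    have hP : Subgroup.normalizer ((P : Subgroup K) : Set K) ≤
        Subgroup.centralizer ((P : Subgroup K) : Set K) := by
      show N ≤ T
      rw [hTN']
    set M := (MonoidHom.transferSylow P hP).ker with hM
    have hcompl := MonoidHom.ker_transferSylow_isComplement' P hP
    have hMc : Nat.card M = 11880 := by
      have h := hcompl.card_mul_card
      rw [show Nat.card ((P : Subgroup K)) = 37 from (Nat.card_zpowers g).trans hg, hK] at h
      rw [← hM] at h
      omega
    -- elements of order 11 lie in the complement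
    have hmem11 : ∀ x : K, x ^ 11 = 1 → x ∈ M := by
      intro x hx
      rw [hM, MonoidHom.mem_ker]
      set y := MonoidHom.transferSylow P hP x
      have h1 : y ^ 11 = 1 := by rw [← map_pow, hx, map_one]
      have h2 : y ^ 37 = 1 := by
        have h := pow_card_eq_one' (x := y)
        rwa [show Nat.card ((P : Subgroup K)) = 37 from (Nat.card_zpowers g).trans hg] at h
      have := pow_gcd_eq_one.2 ⟨h1, h2⟩
      norm_num at this
      exact this
    have : Finite Pt := Nat.finite_of_card_ne_zero (by rw [card_isoPt hF]; omega)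
    have htr : ∀ x y : Pt, ∃ m : M, m • x = y := by
      refine Orbits.transitive_of_unique p (fun z => ?_)
      obtain ⟨v, hv, hvv, rfl⟩ := exists_pt z
      obtain ⟨B', rfl⟩ := exists_frame hF hvv hv
      have hQ' : Nat.card ↥(K ⊓ Ue F q B'.e) = 11 := by
        have h := card_Stab_eq hF p hbig B B'
        rw [card_Stab, card_Stab, hQ, hC] at h
        obtain ⟨i, hi⟩ := card_Qs_pow K B' hF p
        have hd : Nat.card (Cs K B') ∣ q ^ 2 - 1 := card_Cs_dvd K B' hF
        rw [hi, hp] at h ⊢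
        have h11 : ¬ 11 ∣ Nat.card (Cs K B') := fun h' => by
          have := h'.trans hd
          rw [hq] at this
          norm_num at this
        rcases i with _ | _ | i
        · exfalso; apply h11; exact ⟨30, by simpa using h.symm⟩
        · norm_num
        · exfalso
          have : 121 ∣ 330 := by
            rw [show 330 = 11 * 30 by norm_num, h]
            exact Dvd.dvd.mul_right ⟨11 ^ i, by ring⟩ _
          norm_num at this
      obtain ⟨u, hu⟩ : ∃ u : ↥(K ⊓ Ue F q B'.e), u ≠ 1 := by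
        have : Nontrivial ↥(K ⊓ Ue F q B'.e) := Finite.one_lt_card_iff_nontrivial.1 (by omega)
        exact exists_ne 1
      have hu11 : (u : SU3) ^ 11 = 1 := by
        have := congrArg Subtype.val (pow_card_eq_one' (x := u))
        rwa [hQ'] at this
      refine ⟨⟨⟨u, u.2.1⟩, hmem11 _ (Subtype.ext hu11)⟩, ⟨1, Subtype.ext (Subtype.ext ?_)⟩, fun w => ?_⟩
      · rw [hp, pow_one]; exact hu11
      · exact fixes_unique (p := p) hF B' u.2.2 (fun h => hu (Subtype.ext h)) w
    have hdvd : Nat.card Pt ∣ Nat.card M := by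
      have : MulAction.IsPretransitive M Pt := ⟨htr⟩
      rw [← MulAction.index_stabilizer_of_transitive M (pt B.e (e_ne B) B.he : Pt)]
      exact Subgroup.index_dvd_card _
    rw [card_isoPt hF, hMc, hq] at hdvd
    norm_num at hdvd

/-- `q = 9`. -/
theorem nine (hq : q = 9) (hQ : Nat.card ↥(K ⊓ Ue F q B.e) = 27)
    (hC : Nat.card (Cs K B) = 4 ∨ Nat.card (Cs K B) = 5 ∨ Nat.card (Cs K B) = 8) : False := by
  set c := Nat.card (Cs K B) with hc
  have hK : Nat.card K = 73 * (270 * c) := by
    rw [card_eq K B hF p hbig, hQ, ← hc]; subst hq; ring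
  have h73 : ¬ 73 ∣ 270 * c := by rcases hC with e | e | e <;> rw [e] <;> norm_num
  obtain ⟨g, hg, n, hn, hn1, hnc⟩ := sylow_data (G := K) (r := 73) (c := 270 * c) (by norm_num) hK h73
  have hmem : n ∈ ({1} : Finset ℕ) := by
    rcases hC with e | e | e <;> rw [e] at hn <;>
      exact divisors_one hn (by norm_num) hn1 (by decide +kernel)
  rw [Finset.mem_singleton] at hmem
  subst hmem
  refine not_normal hF p hbig B (by norm_num) hg ?_ (by rw [hQ]; norm_num)
    (Subgroup.eq_top_of_card_eq _ (by rw [hK]; omega))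
  rw [card_Stab, hQ, ← hc]
  rcases hC with e | e | e <;> rw [e] <;> norm_num

/-- `q = 8`. -/
theorem eight (hq : q = 8) (hp : p = 2) (hQ : Nat.card ↥(K ⊓ Ue F q B.e) = 8)
    (hC : Nat.card (Cs K B) = 9) : False := by
  subst hp
  have hK : Nat.card K = 19 * 1944 := by rw [card_eq K B hF 2 hbig, hQ, hC]; subst hq; norm_num
  obtain ⟨g, hg, n, hn, hn1, hnc⟩ :=
    sylow_data (G := K) (r := 19) (c := 1944) (by norm_num) hK (by norm_num)
  have hr : ¬ 19 ∣ Nat.card (Stab K B) := by rw [card_Stab, hQ, hC]; norm_num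
  have hmem := divisors_one hn (by norm_num) hn1 (S := {1, 324}) (by decide +kernel)
  simp only [Finset.mem_insert, Finset.mem_singleton] at hmem
  rcases hmem with rfl | rfl
  · refine not_normal hF 2 hbig B (by norm_num) hg hr (by rw [hQ]; norm_num) ?_
    exact Subgroup.eq_top_of_card_eq _ (by rw [hK]; omega)
  set N := Subgroup.normalizer (Subgroup.zpowers g : Set K) with hN
  obtain ⟨⟨t, htN⟩, ht⟩ := exists_prime_orderOf_dvd_card' (G := N) 2 (by omega)
  have htord : orderOf t = 2 := (Subgroup.orderOf_mk t htN).symm.trans ht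
  have ht2 : t * t = 1 := by rw [← pow_two, ← htord, pow_orderOf_eq_one]
  have ht1 : t ≠ 1 := fun h => by rw [h, orderOf_one] at htord; norm_num at htord
  obtain ⟨j, hj⟩ := (Subgroup.mem_normalizer_iff.1 htN g).1 (Subgroup.mem_zpowers g)
  have hj : g ^ j = t * g * t⁻¹ := hj
  have hjj : g ^ (j * j) = g ^ (1 : ℤ) := by
    rw [_root_.zpow_mul, hj, conj_zpow, hj, _root_.zpow_one, ← mul_assoc, ← mul_assoc, ht2, one_mul,
      inv_eq_of_mul_eq_one_right ht2, mul_assoc, ht2, mul_one]
  have hdiv : (19 : ℤ) ∣ j * j - 1 := by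
    have := (zpow_eq_zpow_iff_modEq).1 hjj
    rw [hg] at this
    exact Int.ModEq.dvd this.symm
  have hgK : orderOf (g : SU3) = 19 := (Subgroup.orderOf_coe g).trans hg
  -- every involution lies in a transvection group
  have hinv : ∀ s : K, s ≠ 1 → s * s = 1 → ∃ B' : Frame F q, (s : SU3) ∈ Zg F q B'.e := by
    intro s hs1 hs2
    have hs2' : (s : SU3) * s = 1 := congrArg Subtype.val hs2
    have hnil := UnitaryThreeSections.sub_one_nilpotent (p := 2) (k := 1) (g := (s : SU3))
      (by rw [pow_one, pow_two, hs2'])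
    obtain ⟨v, hv0, hvv, hsv, -⟩ :=
      UnitaryThreeSections.exists_fixed hF hnil (fun h => hs1 (Subtype.ext h))
    obtain ⟨B', rfl⟩ := exists_frame hF hvv hv0
    refine ⟨B', (mem_Zg_iff hF B').2 ⟨hsv, ?_⟩⟩
    have h := tau_mul hF B' hsv hsv
    rw [hs2', tau_one hF B', ← two_mul, CharTwo.two_eq_zero, zero_mul, zero_sub, eq_comm,
      neg_eq_zero, mul_eq_zero] at h
    rcases h with h | h
    · exact pow_eq_zero_iff (q_ne_zero hF) |>.1 h
    · exact h
  have : Fact (Nat.Prime 2) := ⟨Nat.prime_two⟩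
  rcases Int.Prime.dvd_mul' (by norm_num : Nat.Prime 19)
      (show ((19 : ℕ) : ℤ) ∣ (j - 1) * (j + 1) by rw [show (j - 1) * (j + 1) = j * j - 1 by ring]; exact hdiv)
    with h | h
  · -- commuting
    have hgg : t * g * t⁻¹ = g := by
      rw [← hj]
      conv_rhs => rw [← zpow_one g]
      exact zpow_eq_zpow_iff_modEq.2 (by rw [hg]; exact Int.ModEq.symm (Int.modEq_of_dvd h))
    obtain ⟨B', hB'⟩ := hinv t ht1 ht2
    refine not_commute hF 2 hbig B' g.2 hgK ?_ (Zg_le_Ue _ hB') (fun h => ht1 (Subtype.ext h))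
      (congrArg Subtype.val (mul_inv_eq_iff_eq_mul.1 hgg))
    rwa [card_Stab_eq hF 2 hbig B' B]
  · -- inversion
    have hgg : t * g * t⁻¹ = g⁻¹ := by
      rw [← hj, ← _root_.zpow_neg_one]
      exact zpow_eq_zpow_iff_modEq.2 (by
        rw [hg]; exact Int.ModEq.symm (Int.modEq_of_dvd (by rwa [sub_neg_eq_add])))
    rw [inv_eq_of_mul_eq_one_right ht2] at hgg
    have hs2 : t * g * (t * g) = 1 := by rw [← mul_assoc, hgg, inv_mul_cancel]
    have hs1 : t * g ≠ 1 := fun h => by
      have : g = t := by rw [eq_inv_of_mul_eq_one_right h, inv_eq_of_mul_eq_one_right ht2]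
      rw [this, htord] at hg
      norm_num at hg
    obtain ⟨B₁, hB₁⟩ := hinv t ht1 ht2
    obtain ⟨B₂, hB₂⟩ := hinv (t * g) hs1 hs2
    obtain ⟨x, hx0, hx1, hx2⟩ := AutPSU.Basic.exists_perp_two hF (n := 3) le_rfl B₁.e B₂.e
    have hgx : mat (g : SU3) *ᵥ x = x := by
      have e1 := (mem_Zg.1 hB₁).2 x hx1
      have e2 := (mem_Zg.1 hB₂).2 x hx2
      rw [Subgroup.coe_mul] at e2
      have : (g : SU3) = (t : SU3) * ((t : SU3) * g) := by
        rw [← mul_assoc, show (t : SU3) * t = 1 from congrArg Subtype.val ht2, one_mul]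
      rw [this, mul_mulVec, e2, e1]
    by_cases hxx : H x x = 0
    · refine no_fixed hF 2 hbig B g.2 hgK hr (pt x hx0 hxx) ?_
      rw [smul_pt, pt_eq_pt]
      exact ⟨1, by rw [one_smul, hgx]⟩
    obtain ⟨y, hy⟩ := UnitaryCount.exists_norm_eq hF hxx (H_conj hF x x)
    have hy0 : y ≠ 0 := fun h => hxx (by rw [← hy, h, zero_pow (Nat.succ_ne_zero q)])
    set v := y⁻¹ • x with hv
    have hvv : H v v = 1 := by
      rw [hv, UnitaryCount.hermForm_smul_smul, ← hy, inv_pow, inv_mul_cancel₀ (pow_ne_zero _ hy0)]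
    have hgv : mat (g : SU3) *ᵥ v = v := by rw [hv, Matrix.mulVec_smul, hgx]
    obtain ⟨Bv, hBv⟩ := exists_frame_unit hF hvv
    let T : Set Pt := {z | H z.1.rep Bv.w = 0}
    have : Finite Pt := Nat.finite_of_card_ne_zero (by rw [card_isoPt hF]; omega)
    have hTc : T.ncard ≤ q + 1 := by
      rw [← card_iso hF Bv, ← Nat.card_coe_set_eq]
      exact Nat.card_le_card_of_injective
        (fun z : T => (⟨⟨z.1.1, z.2⟩, z.1.2⟩ : {l : PlanePt F q Bv.w // H l.1.rep l.1.rep = 0}))
        fun a b h => Subtype.ext (Subtype.ext (congrArg (fun z => z.1.1) h :))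
    refine no_fixed hF 2 hbig B g.2 hgK hr (pt Bv.e (e_ne Bv) Bv.he) ?_
    refine fix_small (r := 19) (by norm_num) ?_ T (Set.toFinite _) (by omega) (fun z hz => ?_) ?_
    · rw [← hgK, pow_orderOf_eq_one]
    · obtain ⟨a, -, ha⟩ := rep_mk (mat (g : SU3) *ᵥ z.1.rep) (mat_mulVec_ne_zero _ z.1.rep_nonzero)
      show H (Projectivization.mk F _ _).rep Bv.w = 0
      rw [ha, H_smul_left, hBv]
      conv_lhs => arg 2; rw [← hgv]
      rw [SU_H, ← hBv, show H z.1.rep Bv.w = 0 from hz, mul_zero]
    · exact mk_perp (e_ne Bv) (hew hF Bv)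

end Cfsg.Agent.SimpleFacts.MinIndexPSUThree.SmallQ
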