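import Mathlib.GroupTheory.Sylow
import Mathlib.GroupTheory.GroupAction.Quotient
import Mathlib.GroupTheory.SpecificGroups.Cyclic
import Mathlib.Tactic

/-!
# Counting tools for subgroups of large order of `PSU₃(q)`

A transitivity criterion, the orbit count for actions in which a nontrivial element has at most two fixed
points, and its arithmetical consequences.
-/

set_option autoImplicit false
set_option linter.unusedSectionVars false

namespace Cfsg.Agent.SimpleFacts.MinIndexPSUThree.Orbits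

variable {G Ω : Type*} [Group G] [Finite G] [Finite Ω] [MulAction G Ω]

/-- If every point is the unique fixed point of an element of `p`-power order, the action is transitive. -/
theorem transitive_of_unique (p : ℕ) [Fact p.Prime]
    (hU : ∀ x : Ω, ∃ g : G, (∃ k : ℕ, g ^ p ^ k = 1) ∧ ∀ y : Ω, g • y = y ↔ y = x) (x y : Ω) :
    ∃ g : G, g • x = y := by
  classical
  by_contra hxy
  have hy : y ∉ MulAction.orbit G x := fun h => hxy h
  have hmod : ∀ g : G, (∃ k : ℕ, g ^ p ^ k = 1) → Nat.card (MulAction.orbit G x) ≡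
      Nat.card {o : MulAction.orbit G x // g • (o : Ω) = o} [MOD p] := by
    intro g hg
    have hP : IsPGroup p (Subgroup.zpowers g) := by
      rintro ⟨_, j, rfl⟩
      obtain ⟨k, hk⟩ := hg
      refine ⟨k, Subtype.ext ?_⟩
      show (g ^ j) ^ p ^ k = 1
      rw [← zpow_natCast, ← zpow_mul, mul_comm, zpow_mul, zpow_natCast, hk, one_zpow]
    refine (hP.card_modEq_card_fixedPoints (MulAction.orbit G x)).trans ?_
    rw [Nat.card_congr (Equiv.subtypeEquivRight (q := fun o : MulAction.orbit G x => g • (o : Ω) = o) fun o => ?_)]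
    constructor
    · intro h
      exact congrArg Subtype.val (h ⟨g, Subgroup.mem_zpowers g⟩)
    · intro h s
      obtain ⟨_, j, rfl⟩ := s
      have hmem : g ^ j ∈ MulAction.stabilizer G (o : Ω) := zpow_mem (MulAction.mem_stabilizer_iff.2 h) j
      exact Subtype.ext hmem
  obtain ⟨g, hg, hgx⟩ := hU x
  obtain ⟨g', hg', hgy⟩ := hU y
  have h1 := hmod g hg
  have h0 := hmod g' hg'
  have e1 : Nat.card {o : MulAction.orbit G x // g • (o : Ω) = o} = 1 := by
    rw [Nat.card_eq_one_iff_unique]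
    exact ⟨⟨fun a b => Subtype.ext (Subtype.ext (((hgx _).1 a.2).trans ((hgx _).1 b.2).symm))⟩,
      ⟨⟨⟨x, MulAction.mem_orbit_self x⟩, (hgx x).2 rfl⟩⟩⟩
  have e0 : Nat.card {o : MulAction.orbit G x // g' • (o : Ω) = o} = 0 := by
    refine @Nat.card_of_isEmpty _ ⟨fun a => hy ?_⟩
    rw [← (hgy _).1 a.2]
    exact a.1.2
  rw [e1] at h1
  rw [e0] at h0
  have := h0.symm.trans h1
  rw [Nat.ModEq, Nat.zero_mod, Nat.one_mod_eq_one.2 (Fact.out : p.Prime).one_lt.ne'] at this
  exact zero_ne_one this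

/-- A nontrivial element of a group too large to embed in the automorphisms of a group of prime order `r`
commutes with the group it normalises. -/
theorem exists_commute {r : ℕ} (hr : r.Prime) {g : G} (hg : orderOf g = r) (R : Subgroup G)
    (hR : ∀ u ∈ R, u * g * u⁻¹ ∈ Subgroup.zpowers g) (hcard : ¬ Nat.card R ∣ r - 1) :
    ∃ u ∈ R, u ≠ 1 ∧ u * g = g * u := by
  by_contra h
  push Not at h
  have hnorm : R ≤ Subgroup.normalizer (Subgroup.zpowers g : Set G) := fun u hu => by
    refine Subgroup.mem_normalizer_fintype (fun v hv => ?_)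
    obtain ⟨j, rfl⟩ := hv
    rw [← conj_zpow]
    exact zpow_mem (hR u hu) j
  let φ : R →* MulAut (Subgroup.zpowers g) :=
    (Subgroup.normalizerMonoidHom (Subgroup.zpowers g)).comp (Subgroup.inclusion hnorm)
  have hinj : Function.Injective φ := by
    rw [← MonoidHom.ker_eq_bot_iff, Subgroup.eq_bot_iff_forall]
    intro u hu
    by_contra hu1
    refine h u u.2 (fun e => hu1 (Subtype.ext e)) ?_
    have h2 := congrArg (fun f : MulAut (Subgroup.zpowers g) =>
      ((f ⟨g, Subgroup.mem_zpowers g⟩ : Subgroup.zpowers g) : G)) (MonoidHom.mem_ker.1 hu)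
    have h3 : (u : G) * g * (u : G)⁻¹ = g := h2
    exact mul_inv_eq_iff_eq_mul.1 h3
  refine hcard ?_
  have hc : Nat.card (Subgroup.zpowers g) = r := by rw [Nat.card_zpowers, hg]
  have := Subgroup.card_dvd_of_injective φ hinj
  rwa [IsCyclic.card_mulAut, hc, Nat.totient_prime hr] at this

/-- An element of prime order `r` commuting with an element with fewer than `r` fixed points fixes them. -/
theorem fixes_of_commute {r : ℕ} (hr : r.Prime) {g u : G} (hg : g ^ r = 1) (hc : u * g = g * u)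
    (hlt : Nat.card {y : Ω // u • y = y} < r) {y : Ω} (hy : u • y = y) : g • y = y := by
  classical
  by_contra hne
  have hstep : ∀ i : ℕ, u • (g ^ i • y) = g ^ i • y := fun i => by
    rw [← mul_smul, (Commute.pow_right hc i).eq, mul_smul, hy]
  have hinj : Function.Injective fun i : Fin r => (⟨g ^ (i : ℕ) • y, hstep i⟩ : {y : Ω // u • y = y}) := by
    intro i j hij
    have e : g ^ (i : ℕ) • y = g ^ (j : ℕ) • y := congrArg Subtype.val hij
    by_contra hne'
    have : Fact r.Prime := ⟨hr⟩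
    have ho : orderOf g = r := orderOf_eq_prime hg (fun h => hne (by rw [h, one_smul]))
    have hk : g ^ ((j : ℤ) - (i : ℤ)) • y = y := by
      rw [sub_eq_neg_add, zpow_add, mul_smul, zpow_natCast, ← e, ← zpow_natCast, ← mul_smul, ← zpow_add,
        neg_add_cancel, zpow_zero, one_smul]
    have hgen : g ∈ Subgroup.zpowers (g ^ ((j : ℤ) - (i : ℤ))) := by
      rw [Subgroup.mem_zpowers_iff]
      have hcop : IsCoprime ((j : ℤ) - (i : ℤ)) (r : ℤ) := by
        refine ((Nat.prime_iff_prime_int.1 hr).coprime_iff_not_dvd.2 fun hd => hne' (Fin.ext ?_)).symm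
        have hi := i.2
        have hj := j.2
        have := Int.eq_zero_of_abs_lt_dvd hd (by rw [abs_lt]; constructor <;> omega)
        omega
      obtain ⟨a, b, hab⟩ := hcop
      refine ⟨a, ?_⟩
      have h1 : g ^ (b * (r : ℤ)) = 1 := by rw [mul_comm, zpow_mul, zpow_natCast, hg, one_zpow]
      calc (g ^ ((j : ℤ) - (i : ℤ))) ^ a = g ^ (a * ((j : ℤ) - (i : ℤ))) := by
            rw [← zpow_mul, mul_comm]
        _ = g ^ (a * ((j : ℤ) - (i : ℤ)) + b * (r : ℤ)) := by rw [zpow_add, h1, mul_one]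
        _ = g := by rw [hab, zpow_one]
    obtain ⟨a, ha⟩ := Subgroup.mem_zpowers_iff.1 hgen
    refine hne ?_
    rw [← ha]
    exact MulAction.mem_stabilizer_iff.1 (zpow_mem (MulAction.mem_stabilizer_iff.2 hk) a)
  have := Nat.card_le_card_of_injective _ hinj
  rw [Nat.card_fin] at this
  omega

section Poles

variable {X : Type*} [Fintype X] [DecidableEq X] [MulAction G X]

/-- Each orbit contributes `g - o` to the sum of `a - 1`, `a` the reduced order of a stabiliser. -/
theorem step {m gg : ℕ} (hgg : Nat.card G = m * gg) (hm : 0 < m)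
    (hdiv : ∀ x : X, m ∣ Nat.card (MulAction.stabilizer G x)) (R : Finset X)
    (hR : ∀ (g : G) (x : X), x ∈ R → g • x ∈ R)
    (hpos : 0 < ∑ x ∈ R, (Nat.card (MulAction.stabilizer G x) / m - 1)) :
    ∃ (o a : ℕ) (R' : Finset X), 2 ≤ a ∧ o * a = gg ∧
      (∀ (g : G) (x : X), x ∈ R' → g • x ∈ R') ∧
      ∑ x ∈ R, (Nat.card (MulAction.stabilizer G x) / m - 1) =
        (gg - o) + ∑ x ∈ R', (Nat.card (MulAction.stabilizer G x) / m - 1) := by
  classical
  obtain ⟨x, hx, hxa⟩ := Finset.exists_ne_zero_of_sum_ne_zero hpos.ne'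
  set O : Finset X := R.filter fun y => y ∈ MulAction.orbit G x with hO
  have hOset : (O : Set X) = MulAction.orbit G x := by
    ext y
    simp only [hO, Finset.coe_filter, Set.mem_setOf_eq]
    exact ⟨fun h => h.2, fun h => ⟨by obtain ⟨g, rfl⟩ := h; exact hR g x hx, h⟩⟩
  obtain ⟨a, ha⟩ := hdiv x
  have ha' : Nat.card (MulAction.stabilizer G x) / m = a := by rw [ha, Nat.mul_div_cancel_left _ hm]
  have hprod : O.card * (m * a) = m * gg := by
    rw [← ha, ← hgg, ← (MulAction.stabilizer G x).card_mul_index, MulAction.index_stabilizer, mul_comm]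
    congr 1
    rw [← hOset, Set.ncard_coe_finset]
  have hoa : O.card * a = gg := Nat.eq_of_mul_eq_mul_left hm (by linarith)
  have hconst : ∀ y ∈ O, Nat.card (MulAction.stabilizer G y) / m - 1 = a - 1 := by
    intro y hy
    obtain ⟨g, rfl⟩ : y ∈ MulAction.orbit G x := (Finset.mem_filter.1 hy).2
    simp only
    rw [MulAction.stabilizer_smul_eq_stabilizer_map_conj,
      Subgroup.card_map_of_injective (MulAut.conj g).injective, ha']
  refine ⟨O.card, a, R.filter fun y => y ∉ MulAction.orbit G x, by rw [ha'] at hxa; omega, hoa, ?_, ?_⟩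
  · intro g y hy
    rw [Finset.mem_filter] at hy ⊢
    refine ⟨hR g y hy.1, fun h => hy.2 ?_⟩
    obtain ⟨g', hg'⟩ := h
    exact ⟨g⁻¹ * g', show (g⁻¹ * g') • x = y by rw [mul_smul, show g' • x = g • y from hg', inv_smul_smul]⟩
  · rw [← Finset.sum_filter_add_sum_filter_not R (fun y => y ∈ MulAction.orbit G x), ← hO,
      Finset.sum_congr rfl hconst, Finset.sum_const, smul_eq_mul, Nat.mul_sub, hoa, mul_one]

/-- The orbit count when every element outside the kernel fixes two points, or exactly one point of `O`. -/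
theorem total {m : ℕ} (hm : 0 < m) (M : Finset G) (hM : M.card = m)
    (hMfix : ∀ g ∈ M, ∀ x : X, g • x = x) (O : Finset X)
    (P : Finset G) (hPM : ∀ g ∈ P, g ∉ M)
    [Fintype G]
    (hP : ∀ g ∈ P, (Finset.univ.filter fun x : X => g • x = x).card = 1)
    (h2 : ∀ g ∉ M, g ∉ P → (Finset.univ.filter fun x : X => g • x = x).card = 2)
    (hdiv : ∀ x : X, m ∣ Nat.card (MulAction.stabilizer G x)) :
    (∑ x ∈ Oᶜ, (Nat.card (MulAction.stabilizer G x) / m - 1)) * m +
      (∑ x ∈ O, (Nat.card (MulAction.stabilizer G x) - m)) + P.card + 2 * m = 2 * Fintype.card G := by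
  classical
  have hcount : ∀ x : X, Nat.card (MulAction.stabilizer G x) - m =
      ((Mᶜ : Finset G).filter fun g => g • x = x).card := by
    intro x
    have e1 : Nat.card (MulAction.stabilizer G x) = (Finset.univ.filter fun g : G => g • x = x).card := by
      rw [← Fintype.card_subtype, ← Nat.card_eq_fintype_card]
      rfl
    have hsub : M ⊆ Finset.univ.filter fun g : G => g • x = x := fun g hg =>
      Finset.mem_filter.2 ⟨Finset.mem_univ g, hMfix g hg x⟩
    rw [e1, ← hM, ← Finset.card_sdiff_of_subset hsub]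
    congr 1
    ext g
    simp [and_comm]
  have hdc : ∑ x : X, (Nat.card (MulAction.stabilizer G x) - m) =
      ∑ g ∈ (Mᶜ : Finset G), (Finset.univ.filter fun x : X => g • x = x).card := by
    simp only [hcount, Finset.card_filter]
    exact Finset.sum_comm
  have hoff : ∀ x : X, (Nat.card (MulAction.stabilizer G x) / m - 1) * m =
      Nat.card (MulAction.stabilizer G x) - m := by
    intro x
    rw [Nat.sub_mul, one_mul, Nat.div_mul_cancel (hdiv x)]
  rw [Finset.sum_mul, Finset.sum_congr rfl fun x _ => hoff x, add_comm (∑ x ∈ Oᶜ, _),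
    Finset.sum_add_sum_compl, hdc]
  have hPsub : P ⊆ (Mᶜ : Finset G) := fun g hg => Finset.mem_compl.2 (hPM g hg)
  rw [← Finset.sum_sdiff hPsub, Finset.sum_congr rfl (s₁ := P) (g := fun _ => 1) hP,
    Finset.sum_congr rfl (s₁ := (Mᶜ : Finset G) \ P) (g := fun _ => 2) (fun g hg => by
      rw [Finset.mem_sdiff, Finset.mem_compl] at hg
      exact h2 g hg.1 hg.2)]
  rw [Finset.sum_const, Finset.sum_const, Finset.card_sdiff_of_subset hPsub, Finset.card_compl, hM,
    smul_eq_mul, smul_eq_mul, mul_one]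
  have hmle : m ≤ Fintype.card G := hM ▸ Finset.card_le_univ M
  have hPle : P.card ≤ Fintype.card G - m := by
    rw [← hM, ← Finset.card_compl]
    exact Finset.card_le_card hPsub
  omega

/-- The orbits outside `O`: one of size `n (z - 2) + 2` if `2 ≤ z`, two of total size `n e - n + 2` if
`z = 1` and `2 ≤ e`. -/
theorem poles {m n z e : ℕ} (hm : 0 < m) (hn : 2 ≤ n) (hz : 1 ≤ z) (he : 1 ≤ e)
    (M : Finset G) (hM : M.card = m) (hMfix : ∀ g ∈ M, ∀ x : X, g • x = x) (O : Finset X)
    (hO : ∀ (g : G) (x : X), x ∈ O → g • x ∈ O) (hOn : O.card = n)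
    (hst : ∀ x ∈ O, Nat.card (MulAction.stabilizer G x) = z * e * m)
    (hG : Nat.card G = n * (z * e * m))
    (P : Finset G) (hPM : ∀ g ∈ P, g ∉ M) (hPcard : P.card = n * (z - 1) * m)
    [Fintype G]
    (hP : ∀ g ∈ P, (Finset.univ.filter fun x : X => g • x = x).card = 1)
    (h2 : ∀ g ∉ M, g ∉ P → (Finset.univ.filter fun x : X => g • x = x).card = 2)
    (hdiv : ∀ x : X, m ∣ Nat.card (MulAction.stabilizer G x)) :
    (2 ≤ z → ∃ o : ℕ, o ∣ n * (z * e) ∧ o + 2 * n = n * z + 2) ∧
      (z = 1 → 2 ≤ e → ∃ o₁ o₂ a₁ a₂ : ℕ, 2 ≤ a₁ ∧ 2 ≤ a₂ ∧ o₁ * a₁ = n * e ∧ o₂ * a₂ = n * e ∧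
        o₁ + o₂ + n = n * e + 2) := by
  classical
  have hdc := total hm M hM hMfix O P hPM hP h2 hdiv
  set gg := n * (z * e) with hgg
  have hgG : Nat.card G = m * gg := by rw [hG, hgg]; ring
  obtain ⟨z', rfl⟩ : ∃ z', z = z' + 1 := ⟨z - 1, by omega⟩
  obtain ⟨e', rfl⟩ : ∃ e', e = e' + 1 := ⟨e - 1, by omega⟩
  set T := ∑ x ∈ Oᶜ, (Nat.card (MulAction.stabilizer G x) / m - 1) with hT
  have hsumO : ∑ x ∈ O, (Nat.card (MulAction.stabilizer G x) - m) =
      n * ((z' + 1) * (e' + 1) * m - m) := by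
    rw [Finset.sum_congr rfl fun x hx => by rw [hst x hx], Finset.sum_const, hOn, smul_eq_mul]
  have hTval : T + n * z' + 2 = n * ((z' + 1) * (e' + 1)) + n := by
    rw [hsumO, hPcard, ← Nat.card_eq_fintype_card, hG, Nat.add_sub_cancel] at hdc
    refine Nat.eq_of_mul_eq_mul_right hm ?_
    have h1 : (z' + 1) * (e' + 1) * m - m + m = (z' + 1) * (e' + 1) * m :=
      Nat.sub_add_cancel (Nat.le_mul_of_pos_left m (by positivity))
    have h3 : n * ((z' + 1) * (e' + 1) * m - m) + n * m = n * ((z' + 1) * (e' + 1) * m) := by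
      rw [← Nat.mul_add, h1]
    nlinarith
  have hinv : ∀ (g : G) (x : X), x ∈ Oᶜ → g • x ∈ Oᶜ := fun g x hx => by
    rw [Finset.mem_compl] at hx ⊢
    intro h
    have := hO g⁻¹ _ h
    rw [inv_smul_smul] at this
    exact hx this
  constructor
  · intro hz2
    have hpos : 0 < T := by nlinarith
    obtain ⟨o, a, R', ha, hoa, hR', hsum⟩ := step hgG hm hdiv _ hinv hpos
    rw [← hT] at hsum
    have h2o : 2 * o ≤ gg := by rw [← hoa, mul_comm o]; exact Nat.mul_le_mul_right o ha
    have hzero : ∑ x ∈ R', (Nat.card (MulAction.stabilizer G x) / m - 1) = 0 := by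
      by_contra hne
      obtain ⟨o', a', R'', ha', hoa', -, hsum'⟩ := step hgG hm hdiv R' hR' (Nat.pos_of_ne_zero hne)
      have h2o' : 2 * o' ≤ gg := by rw [← hoa', mul_comm o']; exact Nat.mul_le_mul_right o' ha'
      have hle : gg ≤ T := by omega
      have : n ≤ n * z' := Nat.le_mul_of_pos_right n (by omega)
      omega
    refine ⟨o, ⟨a, hoa.symm⟩, ?_⟩
    have hn2 : n * (z' + 1) = n * z' + n := by ring
    omega
  · intro hz1 he2
    obtain rfl : z' = 0 := by omega
    simp only [Nat.zero_add, mul_zero, one_mul, Nat.add_zero] at hTval hgg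
    have hgn : 2 * n ≤ gg := by rw [hgg, mul_comm 2]; exact Nat.mul_le_mul_left n he2
    have hpos : 0 < T := by omega
    obtain ⟨o₁, a₁, R₁, ha₁, hoa₁, hR₁, hsum₁⟩ := step hgG hm hdiv _ hinv hpos
    rw [← hT] at hsum₁
    have h2o₁ : 2 * o₁ ≤ gg := by rw [← hoa₁, mul_comm o₁]; exact Nat.mul_le_mul_right o₁ ha₁
    have ho₁ : 1 ≤ o₁ := Nat.one_le_iff_ne_zero.2 fun h => by rw [h, zero_mul] at hoa₁; omega
    by_cases hz₁ : ∑ x ∈ R₁, (Nat.card (MulAction.stabilizer G x) / m - 1) = 0
    · omega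
    obtain ⟨o₂, a₂, R₂, ha₂, hoa₂, hR₂, hsum₂⟩ := step hgG hm hdiv R₁ hR₁ (Nat.pos_of_ne_zero hz₁)
    have h2o₂ : 2 * o₂ ≤ gg := by rw [← hoa₂, mul_comm o₂]; exact Nat.mul_le_mul_right o₂ ha₂
    have hzero : ∑ x ∈ R₂, (Nat.card (MulAction.stabilizer G x) / m - 1) = 0 := by
      by_contra hne
      obtain ⟨o₃, a₃, R₃, ha₃, hoa₃, -, hsum₃⟩ := step hgG hm hdiv R₂ hR₂ (Nat.pos_of_ne_zero hne)
      have h2o₃ : 2 * o₃ ≤ gg := by rw [← hoa₃, mul_comm o₃]; exact Nat.mul_le_mul_right o₃ ha₃
      omega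
    refine ⟨o₁, o₂, a₁, a₂, ha₁, ha₂, ?_, ?_, ?_⟩
    · simpa [hgg] using hoa₁
    · simpa [hgg] using hoa₂
    · omega

end Poles

/-- The polyhedral equation. -/
theorem small_rotation {n e o₁ o₂ a b : ℕ} (hn : 3 ≤ n) (he : 3 ≤ e) (ha : 2 ≤ a) (hb : 2 ≤ b)
    (h1 : o₁ * a = n * e) (h2 : o₂ * b = n * e) (h : o₁ + o₂ + n = n * e + 2) :
    e ≤ 5 ∧ (n * e = 12 ∨ n * e = 24 ∨ n * e = 60) := by
  wlog hab : a ≤ b generalizing a b o₁ o₂
  · exact this hb ha h2 h1 (by omega) (by omega)
  have key : n * e * (a * b + a * e + b * e) = n * e * (a * b * e) + 2 * (a * b * e) := by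
    have := congrArg (· * (a * b * e)) h
    simp only [add_mul] at this
    calc n * e * (a * b + a * e + b * e)
        = o₂ * (a * b * e) + o₁ * (a * b * e) + n * (a * b * e) := by
          rw [show o₂ * (a * b * e) = (o₂ * b) * (a * e) by ring,
            show o₁ * (a * b * e) = (o₁ * a) * (b * e) by ring, h1, h2]
          ring
      _ = _ := by rw [add_comm (o₂ * _), this]
  have hlt : a * b * e < a * b + a * e + b * e := by
    by_contra hge
    push Not at hge
    have : 0 < a * b * e := by positivity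
    nlinarith [Nat.mul_le_mul_left (n * e) hge]
  have ha2 : a = 2 := by
    by_contra hne
    have ha3 : 3 ≤ a := by omega
    have hb3 : 3 ≤ b := by omega
    nlinarith [Nat.mul_le_mul_left (a * b) he, Nat.mul_le_mul_right e (Nat.mul_le_mul_left a hb3),
      Nat.mul_le_mul_right e (Nat.mul_le_mul_right b ha3)]
  subst ha2
  have hb3 : 3 ≤ b := by
    by_contra hb'
    obtain rfl : b = 2 := by omega
    have h4 : n * e * 4 = 8 * e := by nlinarith
    have : n * 4 = 8 := Nat.eq_of_mul_eq_mul_right (show 0 < e by omega) (by linarith)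
    omega
  have hb5 : b ≤ 5 := by nlinarith
  have he5 : e ≤ 5 := by nlinarith
  refine ⟨he5, ?_⟩
  interval_cases b <;> interval_cases e <;> omega

/-- A group of order `(q + 1) z e` with the orbit sizes above, `1 < z < q` a power of `p`. -/
theorem small_unipotent {p f i e o : ℕ} (hp : p.Prime) (hi : 1 ≤ i) (hif : i < f) (he : 1 ≤ e)
    (hez : e + 1 ≤ p ^ i) (ho : o ∣ (p ^ f + 1) * (p ^ i * e))
    (heq : o + 2 * (p ^ f + 1) = (p ^ f + 1) * p ^ i + 2) :
    (p = 2 ∧ p ^ i = 2) ∨ (p ^ i = 3 ∧ p ^ f = 9) := by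
  set z := p ^ i with hz
  set n := p ^ f + 1 with hn
  have hz2 : 2 ≤ z := le_trans hp.two_le (Nat.le_self_pow (by omega) p)
  have hq : p * z ≤ p ^ f := by
    rw [hz, ← pow_succ']
    exact Nat.pow_le_pow_right hp.pos (by omega)
  have hgcd : Nat.gcd o n ∣ 2 := by
    have h1 : Nat.gcd o n ∣ o + 2 * n :=
      Nat.dvd_add (Nat.gcd_dvd_left o n) ((Nat.gcd_dvd_right o n).mul_left 2)
    rw [heq] at h1
    exact (Nat.dvd_add_right ((Nat.gcd_dvd_right o n).mul_right z)).1 h1
  have hdvd : o ∣ Nat.gcd o n * (z * e) := by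
    rw [← Nat.gcd_mul_right]
    exact Nat.dvd_gcd (dvd_mul_right o _) ho
  have hze : z * e + z ≤ z * z := by nlinarith [Nat.mul_le_mul_left z hez]
  rcases hp.eq_two_or_odd' with rfl | hodd
  · left
    refine ⟨rfl, ?_⟩
    have hnodd : ¬ 2 ∣ n := by
      rw [hn]
      intro h
      have : 2 ∣ 2 ^ f := dvd_pow_self 2 (by omega)
      omega
    have h1 : Nat.gcd o n = 1 := by
      rcases (Nat.dvd_prime Nat.prime_two).1 hgcd with h | h
      · exact h
      · exact absurd (h ▸ Nat.gcd_dvd_right o n) hnodd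
    rw [h1, one_mul] at hdvd
    have hle : o ≤ z * e := Nat.le_of_dvd (by positivity) hdvd
    by_contra hne
    have hz3 : 3 ≤ z := by omega
    nlinarith
  · right
    have hp3 : 3 ≤ p := by rcases hodd with ⟨k, hk⟩; have := hp.two_le; omega
    have hle : o ≤ 2 * (z * e) :=
      Nat.le_of_dvd (by positivity) (hdvd.trans (mul_dvd_mul_right hgcd _))
    have h3z : 3 * z ≤ p ^ f := le_trans (Nat.mul_le_mul_right z hp3) hq
    have hz3 : z ≤ 3 := by
      by_contra hne
      nlinarith
    have hpz : p ∣ z := hz ▸ dvd_pow_self p (by omega)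
    have hp_eq : p = 3 := by
      have := Nat.le_of_dvd (by omega) hpz
      omega
    have hzz : z = 3 := by
      have := Nat.le_of_dvd (by omega) hpz
      omega
    refine ⟨hzz, ?_⟩
    subst hp_eq
    have h12 : 3 ^ f + 3 ≤ 12 := by nlinarith
    have hf2 : 2 ≤ f := by omega
    have : 3 ^ 2 ≤ 3 ^ f := Nat.pow_le_pow_right (by norm_num) hf2
    omega

end Cfsg.Agent.SimpleFacts.MinIndexPSUThree.Orbits
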