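import Cfsg.Agent.SimpleFacts.MinIndexPSUThree.Plane
import Cfsg.Agent.SimpleFacts.MinIndexPSUThree.Orbits

/-!
# Orbit count for a group transitive on the isotropic lines of a plane
-/

set_option autoImplicit false
set_option linter.unusedSectionVars false
set_option linter.unusedSimpArgs false

namespace Cfsg.Agent.SimpleFacts.MinIndexPSUThree.PlaneAction

open Matrix Cfsg.Agent.Classical Cfsg.Agent.Classical.Unitary Cfsg.Agent.Forms
open Cfsg.Agent.SimpleFacts.MinIndexPSUThree.Borel
open Cfsg.Agent.SimpleFacts.MinIndexPSUThree.Plane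

universe u

variable {F : Type u} [Field F] [Fintype F] {q : ℕ} (hF : Fintype.card F = q ^ 2) (B : Frame F q)

local notation "Vec" => (Fin 3 → F)
local notation "H" => Cfsg.hermForm 3 F q
local notation "SU3" => Cfsg.SU 3 F q

include hF

/-- A non-scalar element fixing `e` fixes one line exactly if its two eigenvalues agree. -/
theorem one_iff (k : fixLine F q B.w) (hk : ¬ Scalar B (k : SU3)) {a : F}
    (ha : mat (k : SU3) *ᵥ B.e = a • B.e) :
    Nat.card {l : PlanePt F q B.w // k • l = l} = 1 ↔ a ^ (q + 1) = 1 := by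
  obtain ⟨ha0, -, hf⟩ := triangular hF B ha
  have hA : H (mat (k : SU3) *ᵥ B.e) B.f = a := by rw [ha, H_smul_left, B.hef, mul_one]
  have hC : H (mat (k : SU3) *ᵥ B.e) B.e = 0 := by rw [ha, H_smul_left, B.he, mul_zero]
  have hD : H (mat (k : SU3) *ᵥ B.f) B.e = (a ^ q)⁻¹ := by
    rw [hf]; simp [H_add_left, H_smul_left, B.he, hfe hF B, B.hwe]
  have haq : a ^ q ≠ 0 := pow_ne_zero _ ha0
  set Bc := H (mat (k : SU3) *ᵥ B.f) B.f with hBc
  set le : PlanePt F q B.w := pl B.w B.e (e_ne B) (hew hF B) with hle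
  have hfe' : k • le = le := (fixed_iff k _ _).2 ⟨a, ha⟩
  constructor
  · intro h1
    by_contra hne
    have hne' : a - (a ^ q)⁻¹ ≠ 0 := fun h => hne (by
      have := sub_eq_zero.1 h
      rw [pow_succ]
      nth_rewrite 2 [this]
      rw [mul_inv_cancel₀ haq])
    set α := Bc / ((a ^ q)⁻¹ - a) with hα
    have heig : mat (k : SU3) *ᵥ (α • B.e + (1 : F) • B.f) =
        (a ^ q)⁻¹ • (α • B.e + (1 : F) • B.f) := by
      refine (lin_smul hF B k _ α 1).2 ⟨?_, ?_⟩
      · rw [hA, ← hBc]
        have h0 : (a ^ q)⁻¹ - a ≠ 0 := fun h => hne' (by linear_combination -h)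
        have h1' : α * ((a ^ q)⁻¹ - a) = Bc := div_mul_cancel₀ _ h0
        linear_combination -h1'
      · rw [hC, hD]; ring
    have hu : α • B.e + (1 : F) • B.f ≠ 0 := fun h => by
      have := congrArg (fun x => H x B.e) h
      simp [H_add_left, H_smul_left, H_zero_left, B.he, hfe hF B] at this
    have hw : H (α • B.e + (1 : F) • B.f) B.w = 0 := by
      simp [H_add_left, H_smul_left, hew hF B, hfw hF B]
    have hsub := (Nat.card_eq_one_iff_unique.1 h1).1
    have heq := congrArg Subtype.val (hsub.elim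
      (⟨le, hfe'⟩ : {l : PlanePt F q B.w // k • l = l})
      ⟨pl B.w _ hu hw, (fixed_iff k hu hw).2 ⟨_, heig⟩⟩)
    have heq' : pl B.w B.e (e_ne B) (hew hF B) = pl B.w _ hu hw := heq
    obtain ⟨c, hc⟩ := pl_eq_pl.1 heq'
    have e1 := congrArg (fun x => H x B.e) hc
    simp [H_add_left, H_smul_left, B.he, hfe hF B] at e1
    rw [e1, zero_smul] at hc
    exact e_ne B hc.symm
  · intro hN
    have hDA : (a ^ q)⁻¹ = a := by
      rw [pow_succ] at hN
      exact inv_eq_of_mul_eq_one_right hN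
    have hBne : Bc ≠ 0 := fun h => hk ⟨a, ha, by
      rw [plane_decomp hF B (perp_map k (hfw hF B)), ← hBc, h, hD, hDA, zero_smul, zero_add]⟩
    rw [Nat.card_eq_one_iff_unique]
    have key : ∀ l : PlanePt F q B.w, k • l = l → l = le := by
      intro l hl
      obtain ⟨x, hx0, hxw, rfl⟩ := exists_pl l
      obtain ⟨s, hs⟩ := (fixed_iff k hx0 hxw).1 hl
      rw [plane_decomp hF B hxw] at hs
      obtain ⟨g1, g2⟩ := (lin_smul hF B k s _ _).1 hs
      rw [hA, ← hBc] at g1
      rw [hC, hD, hDA, zero_mul, zero_add] at g2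
      have hb : H x B.e = 0 := by
        by_contra hb
        rw [(mul_eq_zero.1 g2).resolve_right hb, zero_mul, zero_add] at g1
        exact hb ((mul_eq_zero.1 g1).resolve_left hBne)
      have hdec := plane_decomp hF B hxw
      rw [hb, zero_smul, add_zero] at hdec
      exact pl_eq_pl.2 ⟨H x B.f, hdec.symm⟩
    exact ⟨⟨fun u v => Subtype.ext ((key u.1 u.2).trans (key v.1 v.2).symm)⟩, ⟨⟨le, hfe'⟩⟩⟩

/-- Scalars are preserved by conjugation. -/
theorem scalar_conj {g k : SU3} (hg : g ∈ fixLine F q B.w) (hk : Scalar B k) :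
    Scalar B (g * k * g⁻¹) := by
  obtain ⟨r, hre, hrf⟩ := hk
  have hall : ∀ y : Vec, H y B.w = 0 → mat k *ᵥ y = r • y := fun y hy => by
    rw [plane_decomp hF B hy, Matrix.mulVec_add, Matrix.mulVec_smul, Matrix.mulVec_smul, hre, hrf]
    module
  have hgi : g⁻¹ ∈ fixLine F q B.w := (fixLine F q B.w).inv_mem hg
  have key : ∀ y : Vec, H y B.w = 0 → mat (g * k * g⁻¹) *ᵥ y = r • y := fun y hy => by
    rw [mul_mulVec, mul_mulVec, hall _ (perp_map (⟨g⁻¹, hgi⟩ : fixLine F q B.w) hy),
      Matrix.mulVec_smul, ← mul_mulVec, mul_inv_cancel, mat_one, Matrix.one_mulVec]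
  exact ⟨r, key _ (hew hF B), key _ (hfw hF B)⟩

set_option maxHeartbeats 1000000 in
/-- The orbit count. -/
theorem plane_count (p : ℕ) [CharP F p] (S : Subgroup SU3) (hS : S ≤ fixLine F q B.w) {z e m : ℕ}
    (hm : 0 < m) (hz : 1 ≤ z) (he : 1 ≤ e)
    (htr : ∀ x : Vec, x ≠ 0 → H x B.w = 0 → H x x = 0 → ∃ k ∈ S, ∃ a : F, mat k *ᵥ B.e = a • x)
    (hst : Nat.card ↥(S ⊓ fixLine F q B.e) = z * e * m)
    (hsc : Nat.card {k : S // Scalar B (k : SU3)} = m)
    (hone : Nat.card {k : S // ¬ Scalar B (k : SU3) ∧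
        ∃ a : F, mat (k : SU3) *ᵥ B.e = a • B.e ∧ a ^ (q + 1) = 1} = (z - 1) * m) :
    (2 ≤ z → ∃ o : ℕ, o ∣ (q + 1) * (z * e) ∧ o + 2 * (q + 1) = (q + 1) * z + 2) ∧
      (z = 1 → 2 ≤ e → ∃ o₁ o₂ a₁ a₂ : ℕ, 2 ≤ a₁ ∧ 2 ≤ a₂ ∧ o₁ * a₁ = (q + 1) * e ∧
        o₂ * a₂ = (q + 1) * e ∧ o₁ + o₂ + (q + 1) = (q + 1) * e + 2) := by
  classical
  letI : MulAction S (PlanePt F q B.w) := MulAction.compHom _ (Subgroup.inclusion hS)
  let X := PlanePt F q B.w
  have : Fintype X := Fintype.ofFinite _
  let O : Finset X := Finset.univ.filter fun l => H l.1.rep l.1.rep = 0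
  set le : X := pl B.w B.e (e_ne B) (hew hF B) with hle
  have hact : ∀ (k : S) (l : X), k • l = (Subgroup.inclusion hS k) • l := fun _ _ => rfl
  have hisopl : ∀ {x : Vec} (hx0 : x ≠ 0) (hxw : H x B.w = 0),
      pl B.w x hx0 hxw ∈ O ↔ H x x = 0 := by
    intro x hx0 hxw
    obtain ⟨a, ha0, ha⟩ := rep_mk x hx0
    simp only [O, Finset.mem_filter, Finset.mem_univ, true_and]
    show H (Projectivization.mk F x hx0).rep (Projectivization.mk F x hx0).rep = 0 ↔ _
    rw [ha, UnitaryCount.hermForm_smul_smul]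
    simp [ha0]
  have hleO : le ∈ O := (hisopl _ _).2 B.he
  have htrO : ∀ l ∈ O, ∃ k : S, k • le = l := by
    intro l hl
    obtain ⟨x, hx0, hxw, rfl⟩ := exists_pl l
    obtain ⟨k, hk, a, hka⟩ := htr x hx0 hxw ((hisopl _ _).1 hl)
    refine ⟨⟨k, hk⟩, ?_⟩
    rw [hact, hle, smul_pl, pl_eq_pl]
    exact ⟨a, hka.symm⟩
  have hOinv : ∀ (k : S) (l : X), l ∈ O → k • l ∈ O := by
    intro k l hl
    obtain ⟨x, hx0, hxw, rfl⟩ := exists_pl l
    rw [hact, smul_pl, hisopl, SU_H]
    exact (hisopl _ _).1 hl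
  have hOn : O.card = q + 1 := by
    rw [← card_iso hF B, Nat.card_eq_fintype_card, Fintype.card_subtype]
  have hstle : Nat.card (MulAction.stabilizer S le) = z * e * m := by
    rw [← hst]
    refine Nat.card_congr
      { toFun := fun k => ⟨k.1.1, k.1.2, ?_⟩
        invFun := fun k => ⟨⟨k.1, k.2.1⟩, ?_⟩
        left_inv := fun k => rfl
        right_inv := fun k => rfl }
    · obtain ⟨a, ha⟩ := (fixed_iff (Subgroup.inclusion hS k.1) _ _).1 k.2
      exact ⟨a, fun h => mat_mulVec_ne_zero _ (e_ne B) (ha.trans (by rw [h, zero_smul])), ha⟩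
    · obtain ⟨a, -, ha⟩ := k.2.2
      exact (fixed_iff (Subgroup.inclusion hS ⟨k.1, k.2.1⟩) _ _).2 ⟨a, ha⟩
  have hstO : ∀ l ∈ O, Nat.card (MulAction.stabilizer S l) = z * e * m := by
    intro l hl
    obtain ⟨k, rfl⟩ := htrO l hl
    rw [MulAction.stabilizer_smul_eq_stabilizer_map_conj,
      Subgroup.card_map_of_injective (MulAut.conj k).injective, hstle]
  have horb : (MulAction.orbit S le) = (O : Set X) := by
    ext l
    constructor
    · rintro ⟨k, rfl⟩; exact hOinv k le hleO
    · intro hl; exact htrO l hl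
  have hG : Nat.card S = (q + 1) * (z * e * m) := by
    rw [← (MulAction.stabilizer S le).card_mul_index, MulAction.index_stabilizer, horb,
      Set.ncard_coe_finset, hOn, hstle, mul_comm]
  -- scalar elements act trivially
  let M : Finset S := Finset.univ.filter fun k => Scalar B (k : SU3)
  have hM : M.card = m := by rw [← hsc, Nat.card_eq_fintype_card, Fintype.card_subtype]
  have hMfix : ∀ k ∈ M, ∀ l : X, k • l = l := fun k hk l =>
    scalar_fixed hF B (k := Subgroup.inclusion hS k) (Finset.mem_filter.1 hk).2 l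
  let P : Finset S := Finset.univ.filter fun k =>
    ¬ Scalar B (k : SU3) ∧ (Finset.univ.filter fun l : X => k • l = l).card = 1
  have hfix : ∀ k : S, (Finset.univ.filter fun l : X => k • l = l).card =
      Nat.card {l : PlanePt F q B.w // (Subgroup.inclusion hS k) • l = l} := fun k => by
    rw [← Fintype.card_subtype, ← Nat.card_eq_fintype_card]
    rfl
  have hPM : ∀ k ∈ P, k ∉ M := fun k hk h => (Finset.mem_filter.1 hk).2.1 (Finset.mem_filter.1 h).2
  have hP1 : ∀ k ∈ P, (Finset.univ.filter fun l : X => k • l = l).card = 1 :=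
    fun k hk => (Finset.mem_filter.1 hk).2.2
  have h2 : ∀ k ∉ M, k ∉ P → (Finset.univ.filter fun l : X => k • l = l).card = 2 := by
    intro k hkM hkP
    have hns : ¬ Scalar B (k : SU3) := fun h => hkM (Finset.mem_filter.2 ⟨Finset.mem_univ k, h⟩)
    rcases fixed_count hF B p (Subgroup.inclusion hS k) hns with h | ⟨h, -, -⟩
    · rw [hfix, h]
    · exact absurd (Finset.mem_filter.2 ⟨Finset.mem_univ k, hns, by rw [hfix, h]⟩) hkP
  -- scalars are preserved by conjugation
  have hscconj : ∀ (g k : S), Scalar B (k : SU3) → Scalar B ((g * k * g⁻¹ : S) : SU3) :=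
    fun g k hk => by
      rw [Subgroup.coe_mul, Subgroup.coe_mul, Subgroup.coe_inv]
      exact scalar_conj hF B (hS g.2) hk
  have hPcard : P.card = (q + 1) * (z - 1) * m := by
    have hex : ∀ k : S, k ∈ P → ∃ l : X, l ∈ O ∧ k • l = l := by
      intro k hk
      obtain ⟨hns, h1⟩ := (Finset.mem_filter.1 hk).2
      rw [hfix] at h1
      rcases fixed_count hF B p (Subgroup.inclusion hS k) hns with h | ⟨-, -, hiso⟩
      · omega
      obtain ⟨-, ⟨⟨l, hl⟩⟩⟩ := Nat.card_eq_one_iff_unique.1 h1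
      exact ⟨l, Finset.mem_filter.2 ⟨Finset.mem_univ l, hiso l hl⟩, hl⟩
    have hpart : P = O.biUnion fun l => P.filter fun k => k • l = l := by
      ext k
      simp only [Finset.mem_biUnion, Finset.mem_filter]
      exact ⟨fun hk => by obtain ⟨l, hl, hkl⟩ := hex k hk; exact ⟨l, hl, hk, hkl⟩,
        fun ⟨_, _, hk, _⟩ => hk⟩
    rw [hpart, Finset.card_biUnion]
    · have hfib : ∀ l ∈ O, (P.filter fun k => k • l = l).card = (z - 1) * m := by
        intro l hl
        obtain ⟨g, rfl⟩ := htrO l hl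
        have hbase : (P.filter fun k => k • le = le).card = (z - 1) * m := by
          rw [← hone, Nat.card_eq_fintype_card, Fintype.card_subtype]
          congr 1
          ext k
          simp only [P, Finset.mem_filter, Finset.mem_univ, true_and]
          rw [hfix k]
          constructor
          · rintro ⟨⟨hns, h1⟩, hk⟩
            obtain ⟨a, ha⟩ := (fixed_iff (Subgroup.inclusion hS k) _ _).1 hk
            exact ⟨hns, a, ha, (one_iff hF B _ hns ha).1 h1⟩
          · rintro ⟨hns, a, ha, hN⟩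
            exact ⟨⟨hns, (one_iff hF B (Subgroup.inclusion hS k) hns ha).2 hN⟩,
              (fixed_iff (Subgroup.inclusion hS k) _ _).2 ⟨a, ha⟩⟩
        rw [← hbase]
        have hcj : ∀ (h k : S) (x : X), (h * k * h⁻¹) • (h • x) = h • x ↔ k • x = x := by
          intro h k x
          rw [← mul_smul, inv_mul_cancel_right, mul_smul]
          exact smul_left_cancel_iff h
        have hPconj : ∀ (h k : S), k ∈ P → h * k * h⁻¹ ∈ P := by
          intro h k hk
          obtain ⟨hns, h1⟩ := (Finset.mem_filter.1 hk).2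
          refine Finset.mem_filter.2 ⟨Finset.mem_univ _, fun hs => hns ?_, ?_⟩
          · have := hscconj h⁻¹ _ hs
            rwa [show h⁻¹ * (h * k * h⁻¹) * h⁻¹⁻¹ = k by group] at this
          · rw [← h1]
            symm
            refine Finset.card_equiv (MulAction.toPerm h) fun x => ?_
            simp only [Finset.mem_filter, Finset.mem_univ, true_and, MulAction.toPerm_apply]
            exact (hcj h k x).symm
        symm
        refine Finset.card_equiv (MulAut.conj g).toEquiv fun k => ?_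
        simp only [Finset.mem_filter, MulEquiv.toEquiv_eq_coe, EquivLike.coe_coe, MulAut.conj_apply]
        constructor
        · rintro ⟨hk, hkle⟩
          exact ⟨hPconj g k hk, (hcj g k le).2 hkle⟩
        · rintro ⟨hk, hkle⟩
          refine ⟨?_, (hcj g k le).1 hkle⟩
          have := hPconj g⁻¹ _ hk
          rwa [show g⁻¹ * (g * k * g⁻¹) * g⁻¹⁻¹ = k by group] at this
      rw [Finset.sum_congr rfl hfib, Finset.sum_const, hOn, smul_eq_mul, mul_assoc]
    · intro l _ l' _ hne
      rw [Function.onFun, Finset.disjoint_left]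
      intro k hk hk'
      rw [Finset.mem_filter] at hk hk'
      have h1 := hP1 k hk.1
      obtain ⟨y, hy⟩ := Finset.card_eq_one.1 h1
      have e1 : l ∈ ({y} : Finset X) := hy ▸ Finset.mem_filter.2 ⟨Finset.mem_univ l, hk.2⟩
      have e2 : l' ∈ ({y} : Finset X) := hy ▸ Finset.mem_filter.2 ⟨Finset.mem_univ l', hk'.2⟩
      exact hne ((Finset.mem_singleton.1 e1).trans (Finset.mem_singleton.1 e2).symm)
  have hdiv : ∀ l : X, m ∣ Nat.card (MulAction.stabilizer S l) := by
    intro l
    let Msub : Subgroup S :=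
      { carrier := {k | Scalar B (k : SU3)}
        one_mem' := ⟨1, by simp [mat_one], by simp [mat_one]⟩
        mul_mem' := by
          rintro a b ⟨r, hre, hrf⟩ ⟨t, hte, htf⟩
          exact ⟨t * r, by rw [Subgroup.coe_mul, mul_mulVec, hte, Matrix.mulVec_smul, hre, smul_smul],
            by rw [Subgroup.coe_mul, mul_mulVec, htf, Matrix.mulVec_smul, hrf, smul_smul]⟩
        inv_mem' := by
          rintro a ⟨r, hre, hrf⟩
          have hr : r ≠ 0 := fun h => mat_mulVec_ne_zero (a : SU3) (e_ne B) (by rw [hre, h, zero_smul])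
          refine ⟨r⁻¹, ?_, ?_⟩ <;> rw [Subgroup.coe_inv, eq_inv_smul_iff₀ hr, ← Matrix.mulVec_smul]
          · rw [← hre, ← mul_mulVec, inv_mul_cancel, mat_one, Matrix.one_mulVec]
          · rw [← hrf, ← mul_mulVec, inv_mul_cancel, mat_one, Matrix.one_mulVec] }
    have hle' : Msub ≤ MulAction.stabilizer S l := fun k hk =>
      hMfix k (Finset.mem_filter.2 ⟨Finset.mem_univ k, hk⟩) l
    rw [← hsc]
    exact Subgroup.card_dvd_of_le hle'
  exact Orbits.poles hm (by have := HermStd.one_lt_q hF; omega) hz he M hM hMfix O hOinv hOn hstO hG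
    P hPM hPcard hP1 h2 hdiv

end Cfsg.Agent.SimpleFacts.MinIndexPSUThree.PlaneAction
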