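import Cfsg.Agent.SimpleFacts.MinIndexPSUThree.Sub
import Cfsg.Agent.SimpleFacts.MinIndexPSUThree.PlaneAction

/-!
# Trivial transvection subgroups: the centraliser of a homology and the polyhedral bound
-/

set_option autoImplicit false
set_option linter.unusedSectionVars false
set_option linter.unusedSimpArgs false

namespace Cfsg.Agent.SimpleFacts.MinIndexPSUThree.Torus

open Matrix Cfsg.Agent.Classical Cfsg.Agent.Classical.Unitary Cfsg.Agent.Forms
open Cfsg.Agent.SimpleFacts.MinIndexPSUThree.Borel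
open Cfsg.Agent.SimpleFacts.MinIndexPSUThree.Plane
open Cfsg.Agent.SimpleFacts.MinIndexPSUThree.Group
open Cfsg.Agent.SimpleFacts.MinIndexPSUThree.Sub

universe u

variable {F : Type u} [Field F] [Fintype F] {q : ℕ} (hF : Fintype.card F = q ^ 2)

local notation "Vec" => (Fin 3 → F)
local notation "H" => Cfsg.hermForm 3 F q
local notation "SU3" => Cfsg.SU 3 F q
local notation "Pt" => IsoPt F q 3

include hF

/-- A frame through an eigenvector of an element fixing `e`. -/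
theorem exists_adapted (B : Frame F q) {k : SU3} {a : F} (ha : mat k *ᵥ B.e = a • B.e)
    (hb : a ^ q / a ≠ a) :
    ∃ B' : Frame F q, B'.e = B.e ∧ mat k *ᵥ B'.w = (a ^ q / a) • B'.w := by
  obtain ⟨-, hw, -⟩ := triangular hF B ha
  set b := a ^ q / a
  set c := H (mat k *ᵥ B.w) B.f
  set γ := c / (b - a) with hγ
  obtain ⟨ν, hν⟩ := exists_trace_eq hF (c := -((γ ^ q) * γ)) (by
    rw [← HermStd.qHom_apply hF, map_neg, map_mul, HermStd.qHom_apply, HermStd.qHom_apply, pow_qq hF,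
      mul_comm])
  refine ⟨⟨B.e, B.f + (-(γ ^ q)) • B.w + ν • B.e, B.w + γ • B.e, B.he, ?_, ?_, ?_, ?_, ?_⟩, rfl, ?_⟩
  · simp [H_add_left, H_add_right hF, H_smul_left, H_smul_right, H_neg_left, H_neg_right hF,
      B.he, B.hf, B.hef, hfe hF B, B.hwe, B.hwf, B.hww, hew hF B, hfw hF B, pow_qq hF]
    have hn : (-(γ ^ q)) ^ q = -γ := by
      rw [← HermStd.qHom_apply hF, map_neg, HermStd.qHom_apply, pow_qq hF]
    linear_combination hν
  · simp [H_add_right hF, H_smul_right, H_neg_right hF, B.he, B.hef, hew hF B]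
  · simp [H_add_left, H_smul_left, B.he, B.hwe]
  · simp [H_add_left, H_add_right hF, H_smul_left, H_smul_right, H_neg_left, H_neg_right hF,
      B.he, B.hf, B.hef, hfe hF B, B.hwe, B.hwf, B.hww, hew hF B, hfw hF B, pow_qq hF]
  · simp [H_add_left, H_add_right hF, H_smul_left, H_smul_right, B.he, B.hwe, B.hww, hew hF B]
  · show mat k *ᵥ (B.w + γ • B.e) = b • (B.w + γ • B.e)
    have hkey : c + γ * a = b * γ := by
      rw [hγ]; field_simp [sub_ne_zero.2 hb]; ring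
    rw [Matrix.mulVec_add, Matrix.mulVec_smul, hw, ha]
    have h2 := congrArg (fun x : F => x • B.e) hkey
    linear_combination (norm := module) h2

/-- An element fixing `e` of order prime to the characteristic, with two equal eigenvalues, is scalar. -/
theorem scalar_of_coprime (p : ℕ) [CharP F p] (B : Frame F q) {k : SU3} (hw : k ∈ fixLine F q B.w)
    {a : F} (ha : mat k *ᵥ B.e = a • B.e) (hN : a ^ (q + 1) = 1) {n : ℕ} (hn : k ^ n = 1)
    (hpn : ¬ p ∣ n) : Scalar B k := by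
  obtain ⟨ha0, -, hf⟩ := triangular hF B ha
  have hinv : (a ^ q)⁻¹ = a := by rw [pow_succ] at hN; exact inv_eq_of_mul_eq_one_right hN
  have hg : H (mat k *ᵥ B.f) B.w = 0 := perp_map (⟨k, hw⟩ : fixLine F q B.w) (hfw hF B)
  rw [hg, zero_smul, add_zero, hinv] at hf
  obtain ⟨g1, g2⟩ := plane_pow hF (u := B.e) (u' := B.f) ha hf n
  have han : a ^ n = 1 := by
    rw [hn, mat_one, Matrix.one_mulVec] at g1
    exact smul_left_injective F (e_ne B) (show a ^ n • B.e = (1 : F) • B.e by rw [one_smul, ← g1])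
  rw [hn, mat_one, Matrix.one_mulVec, han, one_smul, mul_one, eq_comm, add_eq_left, smul_eq_zero]
    at g2
  have hn0 : (n : F) ≠ 0 := fun h => hpn ((CharP.cast_eq_zero_iff F p n).1 h)
  have hc := (mul_eq_zero.1 (g2.resolve_right (e_ne B))).resolve_left hn0
  exact ⟨a, ha, by rw [hf, hc, zero_smul, add_zero]⟩

variable (p : ℕ) [Fact p.Prime] [CharP F p]

/-- The polyhedral count. -/
theorem torus_count (K : Subgroup SU3) (hbig : q ^ 3 * (q ^ 2 - 1) < Nat.card K) {f : ℕ}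
    (hqf : q = p ^ f) (B : Frame F q) (hz : K ⊓ Zg F q B.e = ⊥) {a0 : Fˣ} (ha0 : a0 ∈ Cs K B)
    (hN : (a0 : F) ^ (q + 1) = 1) (hne : (a0 : F) ^ q ≠ (a0 : F) ^ 2) :
    ∃ e m : ℕ, Nat.card (Cs K B) = e * m ∧
      m = Nat.card ↥(Cs K B ⊓ (powMonoidHom (q + 1) : Fˣ →* Fˣ).ker) ∧
      (3 ≤ e → e ≤ 5 ∧ ((q + 1) * e = 12 ∨ (q + 1) * e = 24 ∨ (q + 1) * e = 60)) := by
  classical
  have hq1 := HermStd.one_lt_q hF
  -- a homology with scalar `a0`
  obtain ⟨i, hi⟩ := card_Qs_pow K B hF p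
  obtain ⟨k0, hk0, hk0e⟩ := exists_of_mem_Cs K B ha0
  have hcop : (p ^ i).Coprime (q + 1) := by
    refine Nat.Coprime.pow_left i ((Nat.Prime.coprime_iff_not_dvd Fact.out).2 fun h => ?_)
    have h2 : p ∣ q := by
      rw [hqf]
      exact dvd_pow_self p (fun h0 => by rw [h0, pow_zero] at hqf; omega)
    exact (Fact.out : p.Prime).one_lt.ne' (Nat.dvd_one.1 ((Nat.dvd_add_right h2).1 h))
  obtain ⟨t, ht⟩ : ∃ t, p ^ i * t ≡ 1 [MOD q + 1] := by
    obtain ⟨t, -, ht⟩ := Nat.exists_mul_mod_eq_one_of_coprime hcop (by omega)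
    exact ⟨t, by rw [Nat.ModEq, ht, Nat.one_mod_eq_one.2 (by omega)]⟩
  set w0 := k0 ^ (p ^ i * t) with hw0def
  have hw0K : w0 ∈ K := pow_mem hk0 _
  have hpw : ∀ n : ℕ, mat (k0 ^ n) *ᵥ B.e = (a0 : F) ^ n • B.e := by
    intro n
    induction n with
    | zero => simp [mat_one]
    | succ n ih => rw [pow_succ', mul_mulVec, ih, Matrix.mulVec_smul, hk0e, smul_smul, pow_succ]
  have ha0N : a0 ^ (q + 1) = 1 := Units.ext (by simpa using hN)
  have hw0e : mat w0 *ᵥ B.e = (a0 : F) • B.e := by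
    rw [hw0def, hpw]
    congr 1
    rw [← Units.val_pow_eq_pow_val]
    congr 1
    conv_rhs => rw [← pow_one a0]
    exact pow_eq_pow_iff_modEq.2 (Nat.ModEq.of_dvd (orderOf_dvd_of_pow_eq_one ha0N) ht)
  have hw0N : w0 ^ (q + 1) = 1 := by
    have hQ : k0 ^ (q + 1) ∈ K ⊓ Ue F q B.e := by
      refine ⟨pow_mem hk0 _, ?_⟩
      show mat (k0 ^ (q + 1)) *ᵥ B.e = B.e
      rw [hpw, hN, one_smul]
    have h1 : (k0 ^ (q + 1)) ^ (p ^ i) = 1 := by
      have := congrArg Subtype.val (pow_card_eq_one' (G := ↥(K ⊓ Ue F q B.e)) (x := ⟨_, hQ⟩))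
      rw [hi] at this
      exact this
    rw [hw0def, ← pow_mul, show p ^ i * t * (q + 1) = (q + 1) * (p ^ i) * t by ring, pow_mul, pow_mul,
      h1, one_pow]
  set b0 : F := (a0 : F) ^ q / (a0 : F) with hb0
  have hb0ne : b0 ≠ (a0 : F) := fun h => hne (by
    rw [hb0, div_eq_iff a0.ne_zero] at h; rw [h, pow_two])
  obtain ⟨B', hB'e, hB'w⟩ := exists_adapted hF B hw0e hb0ne
  obtain ⟨-, -, hcop'⟩ : True ∧ True ∧ ¬ p ∣ q + 1 := ⟨trivial, trivial, fun h => by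
    have h2 : p ∣ q := by
      rw [hqf]
      exact dvd_pow_self p (fun h0 => by rw [h0, pow_zero] at hqf; omega)
    exact (Fact.out : p.Prime).one_lt.ne' (Nat.dvd_one.1 ((Nat.dvd_add_right h2).1 h))⟩
  have hb0' : b0 ≠ 0 := div_ne_zero (pow_ne_zero _ a0.ne_zero) a0.ne_zero
  have hw0fix : w0 ∈ fixLine F q B'.w := ⟨b0, hb0', hB'w⟩
  obtain ⟨r, hre, hrf⟩ := scalar_of_coprime hF p B' hw0fix (by rw [hB'e]; exact hw0e) hN hw0N hcop'
  have hr : r = (a0 : F) := by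
    rw [hB'e, hw0e] at hre
    exact (smul_left_injective F (e_ne B) hre).symm
  subst hr
  have hall : ∀ y : Vec, H y B'.w = 0 → mat w0 *ᵥ y = (a0 : F) • y := fun y hy => by
    rw [plane_decomp hF B' hy, Matrix.mulVec_add, Matrix.mulVec_smul, Matrix.mulVec_smul, hre, hrf]
    module
  -- the centraliser
  let C : Subgroup SU3 := K ⊓ Subgroup.centralizer {w0}
  have hCmem : ∀ k, k ∈ C ↔ k ∈ K ∧ k * w0 = w0 * k := fun k => by
    simp [C, Subgroup.mem_centralizer_singleton_iff, eq_comm]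
  have hC : C ≤ fixLine F q B'.w := by
    intro k hk
    obtain ⟨-, hcomm⟩ := (hCmem k).1 hk
    set x := mat k *ᵥ B'.w with hx
    have hwx : mat w0 *ᵥ x = b0 • x := by
      rw [hx, ← mul_mulVec, ← hcomm, mul_mulVec, hB'w, Matrix.mulVec_smul]
    have hy : H (x - H x B'.w • B'.w) B'.w = 0 := by
      rw [H_sub_left, H_smul_left, B'.hww, mul_one, sub_self]
    have h1 := hall _ hy
    rw [Matrix.mulVec_sub, Matrix.mulVec_smul, hwx, hB'w] at h1
    have h2 : (b0 - (a0 : F)) • (x - H x B'.w • B'.w) = 0 := by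
      linear_combination (norm := module) h1
    have h3 := sub_eq_zero.1 ((smul_eq_zero.1 h2).resolve_left (sub_ne_zero.2 hb0ne))
    exact ⟨H x B'.w, fun h0 => mat_mulVec_ne_zero k (w_ne B') (by rw [← hx, h3, h0, zero_smul]), h3⟩
  -- elements fixing `e` commuting with the homology are trivial
  have hkey : ∀ u ∈ K ⊓ Ue F q B.e, u * w0 = w0 * u → u = 1 := by
    intro u hu hcomm
    obtain ⟨-, hphi⟩ := phi_conj hF B hw0e hu.2
    rw [show w0 * u * w0⁻¹ = u by rw [← hcomm, mul_inv_cancel_right]] at hphi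
    have h0 : phi B u = 0 := by
      by_contra h0
      have h1 : (a0 : F) ^ 2 / (a0 : F) ^ q = 1 :=
        mul_right_cancel₀ h0 (by rw [one_mul]; exact hphi.symm)
      rw [div_eq_one_iff_eq (pow_ne_zero _ a0.ne_zero)] at h1
      exact hne h1.symm
    have : u ∈ (⊥ : Subgroup SU3) := hz ▸ ⟨hu.1, (mem_Zg_iff hF B).2 ⟨hu.2, h0⟩⟩
    exact Subgroup.mem_bot.1 this
  have hw0e' : w0 ∈ fixLine F q B.e := ⟨a0, a0.ne_zero, hw0e⟩
  have hcoset : ∀ g ∈ K, mat g *ᵥ B.e = (a0 : F) • B.e →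
      ∃ u ∈ K ⊓ Ue F q B.e, u * g * u⁻¹ = w0 := by
    intro g hg hge
    let Q : Subgroup SU3 := K ⊓ Ue F q B.e
    have hmem : ∀ u : Q, w0⁻¹ * ((u : SU3) * w0 * (u : SU3)⁻¹) ∈ Q := fun u => by
      refine ⟨K.mul_mem (K.inv_mem hw0K) (K.mul_mem (K.mul_mem u.2.1 hw0K) (K.inv_mem u.2.1)), ?_⟩
      show mat _ *ᵥ B.e = B.e
      have hu' : mat (u : SU3)⁻¹ *ᵥ B.e = B.e := (Ue F q B.e).inv_mem u.2.2
      rw [mul_mulVec, mul_mulVec, mul_mulVec, hu', hw0e, Matrix.mulVec_smul,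
        show mat (u : SU3) *ᵥ B.e = B.e from u.2.2, ← hw0e, ← mul_mulVec, inv_mul_cancel, mat_one,
        Matrix.one_mulVec]
    let ψ : Q → Q := fun u => ⟨_, hmem u⟩
    have hinj : Function.Injective ψ := by
      intro u v h
      have h' : (u : SU3) * w0 * (u : SU3)⁻¹ = (v : SU3) * w0 * (v : SU3)⁻¹ :=
        mul_left_cancel (congrArg Subtype.val h)
      have hc : ((v : SU3)⁻¹ * u) * w0 = w0 * ((v : SU3)⁻¹ * u) := by
        calc ((v : SU3)⁻¹ * u) * w0 = (v : SU3)⁻¹ * ((u : SU3) * w0 * (u : SU3)⁻¹) * u := by group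
          _ = w0 * ((v : SU3)⁻¹ * u) := by rw [h']; group
      exact Subtype.ext (inv_mul_eq_one.1 (hkey _ (Q.mul_mem (Q.inv_mem v.2) u.2) hc)).symm
    have hd : w0⁻¹ * g ∈ Q := by
      refine ⟨K.mul_mem (K.inv_mem hw0K) hg, ?_⟩
      show mat _ *ᵥ B.e = B.e
      rw [mul_mulVec, hge, ← hw0e, ← mul_mulVec, inv_mul_cancel, mat_one, Matrix.one_mulVec]
    obtain ⟨u, hu⟩ := (Finite.injective_iff_surjective.1 hinj) ⟨_, hd⟩
    have h' : (u : SU3) * w0 * (u : SU3)⁻¹ = g := mul_left_cancel (congrArg Subtype.val hu)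
    refine ⟨(u : SU3)⁻¹, Q.inv_mem u.2, ?_⟩
    rw [← h']; group
  have hconj : ∀ k ∈ K, ∀ x : Vec, ∀ a : F, a ≠ 0 → mat k *ᵥ B.e = a • x →
      mat w0 *ᵥ x = (a0 : F) • x → ∃ k' ∈ C, mat k' *ᵥ B.e = a • x := by
    intro k hk x a ha hkx hwx
    have hg : mat (k⁻¹ * w0 * k) *ᵥ B.e = (a0 : F) • B.e := by
      rw [mul_mulVec, mul_mulVec, hkx, Matrix.mulVec_smul, hwx, smul_comm, Matrix.mulVec_smul, ← hkx,
        ← mul_mulVec, inv_mul_cancel, mat_one, Matrix.one_mulVec]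
    obtain ⟨u, hu, hug⟩ := hcoset _ (K.mul_mem (K.mul_mem (K.inv_mem hk) hw0K) hk) hg
    refine ⟨k * u⁻¹, (hCmem _).2 ⟨K.mul_mem hk (K.inv_mem hu.1), ?_⟩, ?_⟩
    · calc k * u⁻¹ * w0 = k * u⁻¹ * (u * (k⁻¹ * w0 * k) * u⁻¹) := by rw [hug]
        _ = w0 * (k * u⁻¹) := by group
    · rw [mul_mulVec, show mat u⁻¹ *ᵥ B.e = B.e from (Ue F q B.e).inv_mem hu.2, hkx]
  have htr : ∀ x : Vec, x ≠ 0 → H x B'.w = 0 → H x x = 0 → ∃ k ∈ C, ∃ a : F, mat k *ᵥ B'.e = a • x := by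
    intro x hx0 hxw hxx
    obtain ⟨B₂, rfl⟩ := exists_frame hF hxx hx0
    obtain ⟨k, hk, a, ha, hka⟩ := exists_conj K B hF p hbig B₂
    obtain ⟨k', hk', hk'x⟩ := hconj k hk _ a ha hka (hall _ hxw)
    exact ⟨k', hk', a, by rw [hB'e]; exact hk'x⟩
  -- the stabiliser
  let ψ : ↥(C ⊓ fixLine F q B'.e) →* Fˣ := (coef B').comp (Subgroup.inclusion inf_le_right)
  have hψ : ∀ k : ↥(C ⊓ fixLine F q B'.e), mat (k : SU3) *ᵥ B'.e = (ψ k : F) • B'.e := fun k =>
    coef_spec B' (Subgroup.inclusion inf_le_right k)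
  have hψeq : ∀ (k : ↥(C ⊓ fixLine F q B'.e)) {a : F}, mat (k : SU3) *ᵥ B'.e = a • B'.e →
      (ψ k : F) = a := fun k _ h => coef_eq B' (Subgroup.inclusion inf_le_right k) h
  have hψinj : Function.Injective ψ := by
    rw [← MonoidHom.ker_eq_bot_iff, Subgroup.eq_bot_iff_forall]
    intro k hk
    have he : mat (k : SU3) *ᵥ B.e = B.e := by
      rw [← hB'e, hψ k, MonoidHom.mem_ker.1 hk, Units.val_one, one_smul]
    exact Subtype.ext (hkey _ ⟨k.2.1.1, he⟩ ((hCmem _).1 k.2.1).2)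
  have hψrange : ψ.range = Cs K B := by
    ext a
    constructor
    · rintro ⟨k, rfl⟩
      exact mem_Cs K B k.2.1.1 (by rw [← hB'e]; exact hψ k)
    · intro ha
      obtain ⟨k, hk, hka⟩ := exists_of_mem_Cs K B ha
      obtain ⟨k', hk', hk'e⟩ := hconj k hk B.e a a.ne_zero hka hw0e
      rw [← hB'e] at hk'e
      exact ⟨⟨k', hk', a, a.ne_zero, hk'e⟩, Units.ext (hψeq _ hk'e)⟩
  set A1 := Cs K B ⊓ (powMonoidHom (q + 1) : Fˣ →* Fˣ).ker with hA1
  set m := Nat.card A1 with hm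
  obtain ⟨e, he⟩ : m ∣ Nat.card (Cs K B) := Subgroup.card_dvd_of_le inf_le_left
  refine ⟨e, m, by rw [he, mul_comm], hm, fun he3 => ?_⟩
  have hcardC : Nat.card ↥(C ⊓ fixLine F q B'.e) = Nat.card (Cs K B) := by
    rw [← hψrange]; exact Nat.card_congr (MonoidHom.ofInjective hψinj).toEquiv
  have hst : Nat.card ↥(C ⊓ fixLine F q B'.e) = 1 * e * m := by rw [hcardC, he]; ring
  -- elements with equal eigenvalues are scalar
  have hprime : ∀ k : ↥(C ⊓ fixLine F q B'.e), (ψ k : F) ^ (q + 1) = 1 → Scalar B' (k : SU3) := by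
    intro k hk
    refine scalar_of_coprime hF p B' (hC k.2.1) (hψ k) hk (n := q + 1) ?_ hcop'
    have : ψ (k ^ (q + 1)) = ψ 1 := by
      rw [map_pow, map_one]; exact Units.ext (by simpa using hk)
    exact congrArg Subtype.val (hψinj this)
  have hscN : ∀ {k : SU3} {r : F}, mat k *ᵥ B'.e = r • B'.e → mat k *ᵥ B'.f = r • B'.f →
      r ^ (q + 1) = 1 := by
    intro k r h1 h2
    have h := SU_H k B'.e B'.f
    rw [h1, h2, H_smul_left, H_smul_right, B'.hef, mul_one] at h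
    rw [pow_succ, mul_comm]; exact h
  have hsc : Nat.card {k : C // Scalar B' (k : SU3)} = m := by
    have hfix : ∀ k : {k : C // Scalar B' (k : SU3)}, (k.1 : SU3) ∈ C ⊓ fixLine F q B'.e := fun k => by
      obtain ⟨r, hre', -⟩ := k.2
      exact ⟨k.1.2, r, fun h => mat_mulVec_ne_zero _ (e_ne B') (hre'.trans (by rw [h, zero_smul])), hre'⟩
    have hin : ∀ k : {k : C // Scalar B' (k : SU3)}, ψ ⟨_, hfix k⟩ ∈ A1 := fun k => by
      obtain ⟨r, hre', hrf'⟩ := k.2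
      refine ⟨hψrange ▸ ⟨_, rfl⟩, MonoidHom.mem_ker.2 (Units.ext ?_)⟩
      rw [powMonoidHom_apply, Units.val_pow_eq_pow_val, hψeq ⟨_, hfix k⟩ hre', Units.val_one]
      exact hscN hre' hrf'
    refine Nat.card_eq_of_bijective (fun k => (⟨_, hin k⟩ : A1)) ⟨?_, ?_⟩
    · intro k k' h
      have hv : ψ ⟨_, hfix k⟩ = ψ ⟨_, hfix k'⟩ := congrArg Subtype.val h
      exact Subtype.ext (Subtype.ext (congrArg Subtype.val (hψinj hv) :))
    · rintro ⟨a, ha⟩
      obtain ⟨k, hk⟩ : a ∈ ψ.range := hψrange.symm ▸ ha.1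
      have hN' : (ψ k : F) ^ (q + 1) = 1 := by
        rw [hk]; simpa using congrArg Units.val (MonoidHom.mem_ker.1 ha.2)
      exact ⟨⟨⟨k, k.2.1⟩, hprime k hN'⟩, Subtype.ext hk⟩
  have hone : Nat.card {k : C // ¬ Scalar B' (k : SU3) ∧
      ∃ a : F, mat (k : SU3) *ᵥ B'.e = a • B'.e ∧ a ^ (q + 1) = 1} = (1 - 1) * m := by
    rw [Nat.sub_self, zero_mul]
    refine @Nat.card_of_isEmpty _ ⟨fun k => ?_⟩
    obtain ⟨hns, a, hka, haN⟩ := k.2
    have hmem : (k.1 : SU3) ∈ C ⊓ fixLine F q B'.e :=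
      ⟨k.1.2, a, fun h => mat_mulVec_ne_zero _ (e_ne B') (hka.trans (by rw [h, zero_smul])), hka⟩
    exact hns (hprime ⟨_, hmem⟩ (by rw [hψeq ⟨_, hmem⟩ hka]; exact haN))
  obtain ⟨o₁, o₂, a₁, a₂, h1, h2, h3, h4, h5⟩ :=
    (PlaneAction.plane_count hF B' p C hC Nat.card_pos le_rfl (by omega) htr hst hsc hone).2 rfl
      (by omega)
  exact Orbits.small_rotation (by omega) he3 h1 h2 h3 h4 h5

end Cfsg.Agent.SimpleFacts.MinIndexPSUThree.Torus
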