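import Cfsg.Agent.SimpleFacts.MinIndexPSUThree.Values
import Cfsg.Agent.SimpleFacts.MinIndexPSUThree.SmallQ
import Cfsg.Agent.SimpleFacts.MinIndexPSUThree.Torus

/-!
# The three cases for the order of a transvection group
-/

set_option autoImplicit false
set_option linter.unusedSectionVars false
set_option linter.unusedSimpArgs false

namespace Cfsg.Agent.SimpleFacts.MinIndexPSUThree.Cases

open Matrix Cfsg.Agent.Classical Cfsg.Agent.Classical.Unitary Cfsg.Agent.Forms
open Cfsg.Agent.SimpleFacts.MinIndexPSUThree.Borel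
open Cfsg.Agent.SimpleFacts.MinIndexPSUThree.Plane
open Cfsg.Agent.SimpleFacts.MinIndexPSUThree.Group
open Cfsg.Agent.SimpleFacts.MinIndexPSUThree.Sub
open Cfsg.Agent.SimpleFacts.MinIndexPSUThree.Bounds
open Cfsg.Agent.SimpleFacts.MinIndexPSUThree.Values

universe u

variable {F : Type u} [Field F] [Fintype F] {q : ℕ}

local notation "SU3" => Cfsg.SU 3 F q
local notation "H" => Cfsg.hermForm 3 F q
local notation "Pt" => IsoPt F q 3

/-- `gcd (q² - 1) (q - 2)` divides `3`. -/
theorem gcd_sub_two (hq : 2 ≤ q) : Nat.gcd (q ^ 2 - 1) (q - 2) ∣ 3 := by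
  obtain ⟨r, rfl⟩ : ∃ r, q = r + 2 := ⟨q - 2, by omega⟩
  simp only [Nat.add_sub_cancel]
  have e : (r + 2) ^ 2 - 1 = (r + 4) * r + 3 := by
    have : (r + 2) ^ 2 = (r + 4) * r + 4 := by ring
    omega
  rw [e, Nat.gcd_mul_right_add_left]
  exact Nat.gcd_dvd_left _ _

theorem gcd_succ_sub_two (hq : 2 ≤ q) : Nat.gcd (q + 1) (q - 2) ∣ 3 := by
  obtain ⟨r, rfl⟩ : ∃ r, q = r + 2 := ⟨q - 2, by omega⟩
  simp only [Nat.add_sub_cancel, show r + 2 + 1 = 3 + r by omega, Nat.gcd_add_self_left]
  exact Nat.gcd_dvd_left _ _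

variable (hF : Fintype.card F = q ^ 2) (p : ℕ) [Fact p.Prime] [CharP F p] {K : Subgroup (Cfsg.SU 3 F q)}
  (hbig : q ^ 3 * (q ^ 2 - 1) < Nat.card K) (B : Frame F q) {f : ℕ} (hqf : q = p ^ f) (h3 : 3 ≤ q)

include hF p hbig hqf h3

/-- Transvection groups of order two. -/
theorem two (hp : p = 2) (hz : Nat.card ↥(K ⊓ Zg F q B.e) = 2) (hzq : 2 < q) : False := by
  classical
  subst hp
  set c := Nat.card (Cs K B) with hc
  set V := Nat.card (Vs K B hF) with hV
  have hb := bound K B hF 2 hbig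
  rw [card_Qs K B hF, hz, ← hc, ← hV] at hb
  obtain ⟨u0, hu0, hu01⟩ : ∃ x ∈ Ts K B, x ≠ 0 := by
    by_contra h
    push Not at h
    have hs : Subsingleton (Ts K B) := ⟨fun a b => Subtype.ext ((h a a.2).trans (h b b.2).symm)⟩
    have h2 := natCard_Ts hF K B
    rw [Nat.card_eq_one_iff_unique.2 ⟨hs, ⟨⟨0, zero_mem_Ts hF K B⟩⟩⟩, hz] at h2
    omega
  have honly : ∀ x ∈ Ts K B, x ≠ 0 → x = u0 := by
    intro x hx hx0
    by_contra hne
    have hsub : ({0, u0, x} : Finset F) ⊆ (Ts K B).toFinset := by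
      intro y hy
      simp only [Finset.mem_insert, Finset.mem_singleton] at hy
      rw [Set.mem_toFinset]
      rcases hy with rfl | rfl | rfl
      exacts [zero_mem_Ts hF K B, hu0, hx]
    have h2 := Finset.card_le_card hsub
    rw [Set.toFinset_card, ← Nat.card_eq_fintype_card, natCard_Ts hF K B, hz] at h2
    rw [Finset.card_insert_of_notMem (by simp [hu01, Ne.symm hu01, Ne.symm hx0]),
      Finset.card_insert_of_notMem (by simp [Ne.symm hne]), Finset.card_singleton] at h2
    omega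
  have hq4 : 4 ≤ q ∧ 2 ∣ q := by
    rcases f with _ | _ | f
    · rw [pow_zero] at hqf; omega
    · rw [zero_add, pow_one] at hqf; omega
    · have h1 : 2 ^ (f + 1 + 1) = 4 * 2 ^ f := by ring
      have := Nat.one_le_two_pow (n := f)
      exact ⟨by omega, ⟨2 * 2 ^ f, by omega⟩⟩
  have hcq : c ∣ q + 1 := by
    refine (card_dvd_of_pow hF (Cs K B) (g := q + 1) fun a ha => ?_).trans (Nat.gcd_dvd_right _ _)
    have h := honly _ (smul_mem_Ts hF K B ha hu0) (mul_ne_zero (pow_ne_zero _ a.ne_zero) hu01)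
    refine Units.ext ?_
    rw [Units.val_pow_eq_pow_val, Units.val_one]
    exact mul_right_cancel₀ hu01 (h.trans (one_mul u0).symm)
  have hnorm : ∀ x ∈ Vs K B hF, x ≠ 0 → x ^ (q + 1) = u0 := fun x hx hx0 =>
    honly _ (sq_mem_Ts hF K B hx) (pow_ne_zero _ hx0)
  have hcle : c ≤ q + 1 := Nat.le_of_dvd (by omega) hcq
  by_cases hV0 : ∀ x ∈ Vs K B hF, x = 0
  · have hs : Subsingleton (Vs K B hF) := ⟨fun a b => Subtype.ext ((hV0 a a.2).trans (hV0 b b.2).symm)⟩
    have hV1 : V = 1 := Nat.card_eq_one_iff_unique.2 ⟨hs, ⟨0⟩⟩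
    rw [hV1, mul_one] at hb
    have : 4 * q ≤ q ^ 2 := by nlinarith
    omega
  push Not at hV0
  obtain ⟨v, hv, hv0⟩ := hV0
  have hVle : V ≤ 4 := by
    have hroot : ∀ x : Vs K B hF, ((x : F) / v) ∈ ((Polynomial.X ^ 4 - Polynomial.X : Polynomial F)).roots.toFinset := by
      intro x
      rw [Multiset.mem_toFinset, Polynomial.mem_roots
        (FiniteField.X_pow_card_sub_X_ne_zero F (by norm_num : 1 < 4))]
      simp only [Polynomial.IsRoot.def, Polynomial.eval_sub, Polynomial.eval_pow, Polynomial.eval_X]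
      set r := (x : F) / v with hr
      have h2 : (2 : F) = 0 := CharTwo.two_eq_zero
      by_cases hr0 : r = 0
      · rw [hr0]; ring
      by_cases hr1 : r = 1
      · rw [hr1]; ring
      have hx0 : (x : F) ≠ 0 := fun h => hr0 (by rw [hr, h, zero_div])
      have hxv : (x : F) + v ≠ 0 := fun h => hr1 (by
        rw [hr, div_eq_one_iff_eq hv0]
        linear_combination h - v * h2)
      have e1 : r ^ (q + 1) = 1 := by
        rw [hr, div_pow, hnorm _ x.2 hx0, hnorm _ hv hv0, div_self hu01]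
      have e2 : (r + 1) ^ (q + 1) = 1 := by
        rw [show r + 1 = ((x : F) + v) / v by rw [hr, add_div, div_self hv0], div_pow, hnorm _ ((Vs K B hF).add_mem x.2 hv) hxv,
          hnorm _ hv hv0, div_self hu01]
      rw [pow_succ, HermStd.add_pow_q hF, one_pow] at e2
      rw [pow_succ] at e1
      linear_combination ((r - 1) * r) * (r * e2 - (r + 1) * e1)
    have h := Nat.card_le_card_of_injective
      (fun x : Vs K B hF => (⟨_, hroot x⟩ : ((Polynomial.X ^ 4 - Polynomial.X : Polynomial F)).roots.toFinset))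
      (fun a b h => Subtype.ext (by
        have h' : (a : F) / v = (b : F) / v := congrArg Subtype.val h
        field_simp at h'
        exact h'))
    refine h.trans ?_
    rw [Nat.card_eq_fintype_card, Fintype.card_coe]
    refine (Multiset.toFinset_card_le _).trans ((Polynomial.card_roots' _).trans (le_of_eq ?_))
    exact FiniteField.X_pow_card_sub_X_natDegree_eq F (by norm_num : 1 < 4)
  have hcV := card_Cs_le hF K B hv hv0
  rw [← hc, ← hV] at hcV
  have hg : Nat.gcd (q ^ 2 - 1) (q - 2) ≤ 3 := Nat.le_of_dvd (by norm_num) (gcd_sub_two (by omega))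
  have hc9 : c ≤ 9 := hcV.trans (le_trans (Nat.mul_le_mul (show V - 1 ≤ 3 by omega) hg) (by norm_num))
  have hq8 : q ≤ 8 := by
    by_contra h
    have : 9 * q ≤ q ^ 2 := by nlinarith
    have : 2 * V * c ≤ 8 * 9 := Nat.mul_le_mul (by omega) hc9
    omega
  have hf3 : f ≤ 3 := by
    by_contra h
    have : 2 ^ 4 ≤ 2 ^ f := Nat.pow_le_pow_right (by norm_num) (by omega)
    omega
  interval_cases f
  · norm_num at hqf; omega
  · norm_num at hqf; omega
  · norm_num at hqf
    subst hqf
    norm_num at hcV hcq hb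
    have : c = 1 := by
      have := Nat.le_of_dvd (by norm_num) hcq
      interval_cases c <;> omega
    rw [this] at hb
    omega
  · norm_num at hqf
    subst hqf
    norm_num at hcV hcq hb
    have hV4 : V = 4 := by
      rcases eq_or_lt_of_le hVle with h | h
      · exact h
      · have := Nat.mul_le_mul (Nat.mul_le_mul_left 2 (show V ≤ 3 by omega)) hc9
        omega
    have hc' : c = 9 := by
      rw [hV4] at hb
      rcases (show c = 8 ∨ c = 9 by omega) with h | h
      · rw [h] at hcq; omega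
      · exact h
    exact SmallQ.eight hF 2 hbig B rfl rfl (by rw [card_Qs K B hF, hz, ← hV, hV4]) (hc.symm.trans hc')

/-- Transvection groups of order three in the field with `81` elements. -/
theorem three (hq : q = 9) (hz : Nat.card ↥(K ⊓ Zg F q B.e) = 3) : False := by
  classical
  subst hq
  have hp : p = 3 := (Nat.prime_dvd_prime_iff_eq Fact.out Nat.prime_three).1
    ((Fact.out : p.Prime).dvd_of_dvd_pow (show p ∣ 3 ^ 2 by
      norm_num; rw [hqf]
      exact dvd_pow_self p (fun h => by rw [h, pow_zero] at hqf; omega)))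
  subst hp
  set c := Nat.card (Cs K B) with hc
  set V := Nat.card (Vs K B hF) with hV
  have hb := bound K B hF 3 hbig
  rw [card_Qs K B hF, hz, ← hc, ← hV] at hb
  norm_num at hb
  obtain ⟨u0, hu0, hu01⟩ : ∃ x ∈ Ts K B, x ≠ 0 := by
    by_contra h
    push Not at h
    have hs : Subsingleton (Ts K B) := ⟨fun a b => Subtype.ext ((h a a.2).trans (h b b.2).symm)⟩
    have h2 := natCard_Ts hF K B
    rw [Nat.card_eq_one_iff_unique.2 ⟨hs, ⟨⟨0, zero_mem_Ts hF K B⟩⟩⟩, hz] at h2
    omega
  have hne : -u0 ≠ u0 := fun h => hu01 (by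
    have h3' : (3 : F) = 0 := by exact_mod_cast CharP.cast_eq_zero F 3
    linear_combination h + u0 * h3')
  have honly : ∀ x ∈ Ts K B, x ≠ 0 → x = u0 ∨ x = -u0 := by
    intro x hx hx0
    by_contra hne'
    push Not at hne'
    have hsub : ({0, u0, -u0, x} : Finset F) ⊆ (Ts K B).toFinset := by
      intro y hy
      simp only [Finset.mem_insert, Finset.mem_singleton] at hy
      rw [Set.mem_toFinset]
      rcases hy with rfl | rfl | rfl | rfl
      exacts [zero_mem_Ts hF K B, hu0, neg_mem_Ts hF K B hu0, hx]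
    have h2 := Finset.card_le_card hsub
    rw [Set.toFinset_card, ← Nat.card_eq_fintype_card, natCard_Ts hF K B, hz] at h2
    rw [Finset.card_insert_of_notMem (by simp [hu01, Ne.symm hu01, Ne.symm hx0]),
      Finset.card_insert_of_notMem (by simp [Ne.symm hne, Ne.symm hne'.1]),
      Finset.card_insert_of_notMem (by simp [Ne.symm hne'.2]), Finset.card_singleton] at h2
    omega
  have hc20 : c ∣ 20 := by
    refine (card_dvd_of_pow hF (Cs K B) (g := 20) fun a ha => ?_).trans (Nat.gcd_dvd_right _ _)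
    have h := honly _ (smul_mem_Ts hF K B ha hu0) (mul_ne_zero (pow_ne_zero _ a.ne_zero) hu01)
    have h10 : (a : F) ^ (9 + 1) = 1 ∨ (a : F) ^ (9 + 1) = -1 := by
      rcases h with h | h
      · exact Or.inl (mul_right_cancel₀ hu01 (h.trans (one_mul u0).symm))
      · exact Or.inr (mul_right_cancel₀ hu01 (h.trans (neg_one_mul u0).symm))
    refine Units.ext ?_
    rw [Units.val_pow_eq_pow_val, Units.val_one, show (20 : ℕ) = (9 + 1) * 2 by norm_num, pow_mul]
    rcases h10 with e | e <;> rw [e] <;> ring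
  have hV9 : V ≤ 9 := by
    have := card_Vs_le hF K B
    rw [← hV, hz] at this
    norm_num at this
    exact this
  have hc' : c ≤ 20 := Nat.le_of_dvd (by norm_num) hc20
  by_cases hV0 : ∀ x ∈ Vs K B hF, x = 0
  · have hs : Subsingleton (Vs K B hF) := ⟨fun a b => Subtype.ext ((hV0 a a.2).trans (hV0 b b.2).symm)⟩
    have hV1 : V = 1 := Nat.card_eq_one_iff_unique.2 ⟨hs, ⟨0⟩⟩
    rw [hV1] at hb
    omega
  push Not at hV0
  obtain ⟨v, hv, hv0⟩ := hV0
  have hcV := card_Cs_le hF K B hv hv0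
  rw [← hc, ← hV] at hcV
  norm_num at hcV
  obtain ⟨i, hi⟩ := card_Qs_pow K B hF 3
  rw [card_Qs K B hF, hz, ← hV] at hi
  have hi3 : i ≤ 3 := by
    by_contra h
    have : 3 ^ 4 ≤ 3 ^ i := Nat.pow_le_pow_right (by norm_num) (by omega)
    omega
  have hV' : V = 9 := by
    interval_cases i
    · omega
    · norm_num at hi; rw [hi] at hb; omega
    · norm_num at hi
      have h3 : V = 3 := by omega
      rw [h3] at hb hcV
      omega
    · norm_num at hi; omega
  rw [hV'] at hb hcV
  refine SmallQ.nine hF 3 hbig B rfl (by rw [card_Qs K B hF, hz, ← hV, hV']) ?_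
  rw [← hc]
  interval_cases c <;> omega

omit hqf in
/-- The involutions give `-1` among the scalars. -/
theorem neg_one_mem (hp : Odd p) (hodd : Odd q) : (-1 : Fˣ) ∈ Cs K B := by
  classical
  have : Fact (Nat.Prime 2) := ⟨Nat.prime_two⟩
  obtain ⟨t, ht⟩ := exists_prime_orderOf_dvd_card' (G := K) 2 (by
    rw [card_eq K B hF p hbig]
    refine Dvd.dvd.mul_right ?_ _
    obtain ⟨r, hr⟩ := (hodd.pow (n := 3)).add_one.exists_two_nsmul
    exact ⟨r, by simpa [two_mul] using hr⟩)
  have htS : orderOf (t : SU3) = 2 := (Subgroup.orderOf_coe t).trans ht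
  have ht1 : (t : SU3) ≠ 1 := fun h => by rw [h, orderOf_one] at htS; norm_num at htS
  have ht2 : (t : SU3) * t = 1 := by rw [← pow_two, ← htS, pow_orderOf_eq_one]
  obtain ⟨y, hy⟩ := (Primes.invol_fixed hF hodd ht1 ht2).1
  obtain ⟨x, hx0, hxx, rfl⟩ := exists_pt y
  obtain ⟨B', rfl⟩ := exists_frame hF hxx hx0
  rw [Set.mem_ofPred_eq, smul_pt, pt_eq_pt] at hy
  obtain ⟨a, ha⟩ := hy
  have haa : a * a = 1 := by
    have h2 : mat ((t : SU3) * (t : SU3)) *ᵥ B'.e = (a * a) • B'.e := by
      rw [mul_mulVec, ← ha, Matrix.mulVec_smul, ← ha, smul_smul]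
    rw [ht2, mat_one, Matrix.one_mulVec] at h2
    exact (smul_left_injective F hx0 (show (a * a) • B'.e = (1 : F) • B'.e by rw [one_smul, ← h2]))
  have ha1 : a = -1 := by
    rcases mul_self_eq_one_iff.1 haa with h | h
    · exfalso
      rw [h, one_smul] at ha
      obtain ⟨k, hk⟩ := pow_p (p := p) hF B' (show (t : SU3) ∈ Ue F q B'.e from ha.symm)
      have h2 : 2 ∣ p ^ k := htS ▸ orderOf_dvd_of_pow_eq_one hk
      exact (Nat.not_even_iff_odd.2 hp.pow) (even_iff_two_dvd.2 h2)
    · exact h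
  subst ha1
  obtain ⟨k, hk, r, hr, hkr⟩ := exists_conj K B hF p hbig B'
  refine mem_Cs K B (k := k⁻¹ * (t : SU3) * k) (K.mul_mem (K.mul_mem (K.inv_mem hk) (t : ↥K).2) hk) ?_
  rw [Units.val_neg, Units.val_one, mul_mulVec, mul_mulVec, hkr, Matrix.mulVec_smul, ← ha,
    smul_comm, Matrix.mulVec_smul, ← hkr, ← mul_mulVec, inv_mul_cancel, mat_one, Matrix.one_mulVec]

/-- Trivial transvection groups. -/
theorem one (h5 : q ≠ 5) (hZ : Subgroup.center SU3 ≤ K)
    (hz : Nat.card ↥(K ⊓ Zg F q B.e) = 1) : False := by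
  classical
  have hbot : K ⊓ Zg F q B.e = ⊥ := Subgroup.card_eq_one.1 hz
  have hline : ∀ x ∈ Vs K B hF, ∀ y ∈ Vs K B hF, x ^ q * y = y ^ q * x :=
    fun x hx y hy => line_of_bot hF K B hz hx hy
  set c := Nat.card (Cs K B) with hc
  set V := Nat.card (Vs K B hF) with hV
  have hb := bound K B hF p hbig
  have hQV : Nat.card ↥(K ⊓ Ue F q B.e) = V := by rw [card_Qs K B hF, hz, one_mul]
  rw [hQV, ← hc] at hb
  have hcd : c ∣ q ^ 2 - 1 := card_Cs_dvd K B hF
  have hq2 : 9 ≤ q ^ 2 := by nlinarith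
  have hfac := sq_sub_one (q := q) hF
  obtain ⟨hVq, hdvd⟩ := line_bounds hF K B hline
  rw [← hV] at hVq hdvd
  rw [← hc] at hdvd
  by_cases hV1 : V = 1
  · rw [hV1, one_mul] at hb
    have hcq : c = q ^ 2 - 1 := le_antisymm (Nat.le_of_dvd (by omega) hcd) hb
    have htop : Cs K B = ⊤ := Subgroup.eq_top_of_card_eq _ (by rw [← hc, hcq, card_units hF])
    obtain ⟨g, hg⟩ := IsCyclic.exists_ofOrder_eq_natCard (α := Fˣ)
    rw [card_units hF] at hg
    set a0 := g ^ (q - 1) with ha0def
    have hN : (a0 : F) ^ (q + 1) = 1 := by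
      have : a0 ^ (q + 1) = 1 := by rw [ha0def, ← pow_mul, ← hfac, ← hg, pow_orderOf_eq_one]
      simpa using congrArg Units.val this
    have hne : (a0 : F) ^ q ≠ (a0 : F) ^ 2 := by
      intro h
      have h' : a0 ^ q = a0 ^ 2 := Units.ext (by simpa using h)
      have h'' : g ^ ((q - 1) * (q - 2)) = 1 := by
        rw [pow_mul, ← ha0def]
        refine mul_right_cancel (b := a0 ^ 2) ?_
        rw [← pow_add, Nat.sub_add_cancel (by omega), one_mul, h']
      have h2 := orderOf_dvd_of_pow_eq_one h''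
      rw [hg, hfac] at h2
      have := Nat.le_of_dvd (by omega) ((Nat.mul_dvd_mul_iff_left (by omega)).1 h2)
      omega
    obtain ⟨e, m, hem, hm, he⟩ := Torus.torus_count hF p K hbig hqf B hbot
      (htop ▸ Subgroup.mem_top a0) hN hne
    have hmq : m = q + 1 := by
      rw [hm, htop, top_inf_eq, IsCyclic.card_powMonoidHom_ker, card_units hF, hfac]
      exact Nat.gcd_eq_right (dvd_mul_left _ _)
    rw [← hc, hcq, hfac, hmq] at hem
    have he' : e = q - 1 := (Nat.eq_of_mul_eq_mul_right (by omega) hem).symm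
    by_cases hq3 : q = 3
    · exact SmallQ.three hF p hbig B hq3 (hQV.trans hV1) (hcq.trans (by rw [hq3]; norm_num))
    obtain ⟨he5, hs⟩ := he (by omega)
    have hq6 : q ≤ 6 := by omega
    rw [he'] at hs
    rcases (show q = 4 ∨ q = 6 by omega) with h' | h' <;> rw [h'] at hs <;> omega
  have hodd : Odd p := by
    rcases (Fact.out : p.Prime).eq_two_or_odd' with h | h
    · subst h
      exfalso
      refine hV1 (Nat.card_eq_one_iff_unique.2 ⟨⟨fun a b => ?_⟩, ⟨0⟩⟩)
      have key : ∀ x : Vs K B hF, (x : F) = 0 := fun x => by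
        have hT := sq_mem_Ts hF K B x.2
        have hs : Subsingleton (Ts K B) := by
          rw [← natCard_Ts hF K B] at hz
          exact (Nat.card_eq_one_iff_unique.1 hz).1
        exact pow_eq_zero_iff (Nat.succ_ne_zero q) |>.1
          (congrArg Subtype.val (hs.elim ⟨_, hT⟩ ⟨0, zero_mem_Ts hF K B⟩))
      exact Subtype.ext ((key a).trans (key b).symm)
    · exact h
  have hqodd : Odd q := hqf ▸ hodd.pow
  have hp3 : 3 ≤ p := by
    obtain ⟨r, hr⟩ := hodd
    have := (Fact.out : p.Prime).two_le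
    omega
  have hdv := hdvd hV1
  set g := Nat.gcd (q + 1) (q - 2) with hgdef
  have hkey : q ^ 2 - 1 = q * (q - 1) + (q - 1) := by rw [hfac, mul_comm, add_one_mul]
  have hg3 : g = 3 := by
    rcases (Nat.dvd_prime Nat.prime_three).1 (gcd_succ_sub_two (show 2 ≤ q by omega)) with h | h
    · exfalso
      rw [← hgdef] at h
      rw [h, mul_one] at hdv
      have := Nat.mul_le_mul hVq (Nat.le_of_dvd (show 0 < q - 1 by omega) hdv)
      omega
    · exact h
  have h3q : 3 ∣ q + 1 := hg3 ▸ Nat.gcd_dvd_left _ _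
  rw [hg3] at hdv
  have hc3 : c ≤ (q - 1) * 3 := Nat.le_of_dvd (by omega) hdv
  have hVq' : V = q := by
    obtain ⟨i, hi⟩ := card_Qs_pow K B hF p
    rw [hQV] at hi
    by_contra hne
    have hif : i < f := by
      rcases lt_or_ge i f with h | h
      · exact h
      · exact absurd (le_antisymm hVq (by rw [hi, hqf]; exact Nat.pow_le_pow_right (Fact.out : p.Prime).pos h)) hne
    have h3V : 3 * V ≤ q := by
      calc 3 * V ≤ p * p ^ i := by rw [hi]; exact Nat.mul_le_mul_right _ hp3
        _ = p ^ (i + 1) := (pow_succ' p i).symm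
        _ ≤ q := by rw [hqf]; exact Nat.pow_le_pow_right (Fact.out : p.Prime).pos hif
    have h1 : V * c ≤ V * ((q - 1) * 3) := Nat.mul_le_mul_left _ hc3
    have h2 : 3 * V * (q - 1) ≤ q * (q - 1) := Nat.mul_le_mul_right _ h3V
    have h4 : V * ((q - 1) * 3) = 3 * V * (q - 1) := by ring
    omega
  rw [hVq'] at hb
  have hcq : q ≤ c := by
    by_contra h
    have := Nat.mul_le_mul_left q (show c ≤ q - 1 by omega)
    omega
  have hneg := neg_one_mem hF p hbig B h3 hodd hqodd
  have hcharne : (-1 : F) ≠ 1 := fun h => by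
    have h2 : (2 : F) = 0 := by linear_combination -h
    have h2' : ((2 : ℕ) : F) = 0 := by exact_mod_cast h2
    have := Nat.le_of_dvd (by norm_num) ((CharP.cast_eq_zero_iff F p 2).1 h2')
    omega
  have h2c : 2 ∣ c := by
    have hord : orderOf (⟨-1, hneg⟩ : Cs K B) = 2 := orderOf_eq_prime
      (Subtype.ext (Units.ext (by simp)))
      (fun h => hcharne (by simpa using congrArg (fun x : Cs K B => ((x : Fˣ) : F)) h))
    exact hord ▸ orderOf_dvd_natCard _
  obtain ⟨e, m, hem, hm, he⟩ := Torus.torus_count hF p K hbig hqf B hbot hneg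
    (by simp [hqodd.add_one.neg_one_pow])
    (by simp [hqodd.neg_one_pow, hcharne])
  rw [← hc] at hem
  have hm6 : m ∣ 6 := by
    have h1 : m ∣ q + 1 := by
      rw [hm]
      refine (card_dvd_of_pow hF _ (g := q + 1) fun a ha => ?_).trans (Nat.gcd_dvd_right _ _)
      exact MonoidHom.mem_ker.1 ha.2
    have h2 : m ∣ (q - 1) * 3 := (Dvd.intro_left e hem.symm).trans hdv
    have h3' := Nat.dvd_sub (h1.mul_right 3) h2
    rwa [show (q + 1) * 3 - (q - 1) * 3 = 6 by omega] at h3'
  have hmle : m ≤ 6 := Nat.le_of_dvd (by norm_num) hm6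
  have hem' : c ≤ e * 6 := hem ▸ Nat.mul_le_mul_left e hmle
  have hq11 : q = 11 := by
    obtain ⟨r, hr⟩ := hqodd
    obtain ⟨s, hs⟩ := h3q
    by_cases he3 : 3 ≤ e
    · obtain ⟨-, h12 | h24 | h60⟩ := he he3
      · have := Nat.mul_le_mul_left (q + 1) he3
        omega
      · have := Nat.mul_le_mul_left (q + 1) he3
        omega
      · have := Nat.mul_le_mul_left (q + 1) he3
        rcases (show q = 11 ∨ q = 17 by omega) with h' | h'
        · exact h'
        · rw [h'] at h60; omega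
    · omega
  subst hq11
  have hp11 : p = 11 := ((Nat.prime_dvd_prime_iff_eq Fact.out (by norm_num)).1
    (hqf ▸ dvd_pow_self p (fun h => by rw [h, pow_zero] at hqf; omega)))
  norm_num at hdv
  have hc30 : c = 30 := by
    have := Nat.le_of_dvd (by norm_num) hdv
    obtain ⟨t, ht⟩ := h2c
    rcases (show c = 12 ∨ c = 14 ∨ c = 16 ∨ c = 18 ∨ c = 20 ∨ c = 22 ∨ c = 24 ∨ c = 26 ∨ c = 28 ∨ c = 30
      by omega) with h | h | h | h | h | h | h | h | h | h <;> rw [h] at hdv <;> omega
  exact SmallQ.eleven hF p hbig B rfl hp11 (hQV.trans hVq') hc30 hZ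

end Cfsg.Agent.SimpleFacts.MinIndexPSUThree.Cases
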