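import Cfsg.Agent.SimpleFacts.MinIndexPSUThree.Unipotent
import Cfsg.Agent.SimpleFacts.MinIndexPSUThree.Cases

/-!
# The minimal index of a proper subgroup of `PSU₃(q)`
-/

set_option autoImplicit false
set_option linter.unusedSectionVars false

namespace Cfsg.Agent.SimpleFacts.MinIndexPSUThree.Main

open Matrix Cfsg.Agent.Classical Cfsg.Agent.Classical.Unitary Cfsg.Agent.Forms
open Cfsg.Agent.SimpleFacts.MinIndexPSUThree.Borel
open Cfsg.Agent.SimpleFacts.MinIndexPSUThree.Plane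
open Cfsg.Agent.SimpleFacts.MinIndexPSUThree.Group
open Cfsg.Agent.SimpleFacts.MinIndexPSUThree.Sub

universe u

variable {F : Type u} [Field F] [Fintype F] {q : ℕ} (hF : Fintype.card F = q ^ 2)

local notation "SU3" => Cfsg.SU 3 F q

include hF

/-- A subgroup containing the centre and larger than a point stabiliser is everything. -/
theorem eq_top (h3 : 3 ≤ q) (h5 : q ≠ 5) {K : Subgroup SU3} (hZ : Subgroup.center SU3 ≤ K)
    (hbig : q ^ 3 * (q ^ 2 - 1) < Nat.card K) : K = ⊤ := by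
  obtain ⟨p, hchar⟩ := CharP.exists F
  obtain ⟨n, hp, hn⟩ := FiniteField.card F p
  have : Fact p.Prime := ⟨hp⟩
  obtain ⟨f, -, hqf⟩ := (Nat.dvd_prime_pow hp).1
    (show q ∣ p ^ (n : ℕ) from hn ▸ hF ▸ dvd_pow_self q two_ne_zero)
  refine eq_top_of_Zg hF (by omega) K fun B => ?_
  set z := Nat.card ↥(K ⊓ Zg F q B.e) with hz
  rcases eq_or_lt_of_le (card_Zs_le K B hF : z ≤ q) with h | h
  · refine inf_eq_right.1 (Subgroup.eq_of_le_of_card_ge inf_le_right ?_)
    rw [card_Zg hF B]; exact h.ge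
  exfalso
  by_cases h1 : z = 1
  · exact Cases.one hF p hbig B hqf h3 h5 hZ h1
  have h2 : 2 ≤ z := by
    have : 0 < z := Nat.card_pos
    omega
  rcases Unipotent.z_cases hF p K hbig hqf B h2 h with ⟨hp2, hz2⟩ | ⟨hz3, hq9⟩
  · exact Cases.two hF p hbig B hqf h3 hp2 hz2 (by omega)
  · exact Cases.three hF p hbig B hqf h3 hq9 hz3

/-- The index of a proper subgroup containing the centre. -/
theorem le_index (h3 : 3 ≤ q) (h5 : q ≠ 5) {K : Subgroup SU3} (hZ : Subgroup.center SU3 ≤ K)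
    (hK : K ≠ ⊤) : q ^ 3 + 1 ≤ K.index := by
  by_contra hlt
  push Not at hlt
  refine hK (eq_top hF h3 h5 hZ ?_)
  have hc := K.card_mul_index
  rw [card_SU hF] at hc
  have h1 : q ^ 3 * (q ^ 3 + 1) * (q ^ 2 - 1) ≤ Nat.card K * q ^ 3 :=
    hc ▸ Nat.mul_le_mul_left _ (by omega)
  have h2 : (q ^ 3 + 1) * (q ^ 2 - 1) ≤ Nat.card K := by
    refine Nat.le_of_mul_le_mul_right ?_ (pow_pos (show 0 < q by omega) 3)
    linarith
  have h4 : 9 ≤ q ^ 2 := by nlinarith
  rw [add_one_mul] at h2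
  omega

/-- The point stabiliser contains the centre and has index `q³ + 1`. -/
theorem index_fixLine (B : Frame F q) :
    Subgroup.center SU3 ≤ fixLine F q B.e ∧ (fixLine F q B.e).index = q ^ 3 + 1 := by
  have hq := HermStd.one_lt_q hF
  constructor
  · intro g hg
    obtain ⟨a, ha⟩ := (mem_center_iff hF (by norm_num) g).1 hg
    have h : mat g *ᵥ B.e = a • B.e := by rw [ha, Matrix.smul_mulVec, Matrix.one_mulVec]
    exact ⟨a, fun h0 => mat_mulVec_ne_zero g (e_ne B) (by rw [h, h0, zero_smul]), h⟩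
  · have h := (fixLine F q B.e).card_mul_index
    rw [card_fixLine hF B, card_SU hF] at h
    have h4 : 4 ≤ q ^ 2 := by nlinarith
    refine Nat.eq_of_mul_eq_mul_left
      (Nat.mul_pos (pow_pos (show 0 < q by omega) 3) (show 0 < q ^ 2 - 1 by omega)) (h.trans ?_)
    ring

end Cfsg.Agent.SimpleFacts.MinIndexPSUThree.Main
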