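import Cfsg.Agent.SimpleFacts.MinIndexPSUThree.Bounds

/-!
# The central coordinates of the elements of `K` fixing a vector
-/

set_option autoImplicit false
set_option linter.unusedSectionVars false
set_option linter.unusedSimpArgs false

namespace Cfsg.Agent.SimpleFacts.MinIndexPSUThree.Values

open Matrix Cfsg.Agent.Classical Cfsg.Agent.Classical.Unitary Cfsg.Agent.Forms
open Cfsg.Agent.SimpleFacts.MinIndexPSUThree.Borel
open Cfsg.Agent.SimpleFacts.MinIndexPSUThree.Plane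
open Cfsg.Agent.SimpleFacts.MinIndexPSUThree.Group
open Cfsg.Agent.SimpleFacts.MinIndexPSUThree.Sub

universe u

variable {F : Type u} [Field F] [Fintype F] {q : ℕ}

local notation "H" => Cfsg.hermForm 3 F q
local notation "SU3" => Cfsg.SU 3 F q

/-- The central coordinates. -/
def Ts (K : Subgroup (Cfsg.SU 3 F q)) (B : Frame F q) : Set F :=
  (fun u => tau B u) '' ((K ⊓ Zg F q B.e : Subgroup (Cfsg.SU 3 F q)) : Set (Cfsg.SU 3 F q))

variable (hF : Fintype.card F = q ^ 2) (K : Subgroup (Cfsg.SU 3 F q)) (B : Frame F q)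

include hF

theorem zero_mem_Ts : (0 : F) ∈ Ts K B := ⟨1, one_mem _, tau_one hF B⟩

theorem neg_mem_Ts {x : F} (hx : x ∈ Ts K B) : -x ∈ Ts K B := by
  obtain ⟨u, hu, rfl⟩ := hx
  refine ⟨u⁻¹, inv_mem hu, ?_⟩
  obtain ⟨he, hp⟩ := (mem_Zg_iff hF B).1 hu.2
  obtain ⟨he', hp'⟩ := (mem_Zg_iff hF B).1 ((Zg F q B.e).inv_mem hu.2)
  have h := tau_mul hF B he he'
  rw [mul_inv_cancel, tau_one hF B, hp, hp', mul_zero, sub_zero] at h
  show tau B u⁻¹ = -tau B u
  linear_combination -h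

theorem natCard_Ts : Nat.card (Ts K B) = Nat.card ↥(K ⊓ Zg F q B.e) := by
  refine Nat.card_image_of_injOn ?_
  intro u hu v hv h
  obtain ⟨he, hp⟩ := (mem_Zg_iff hF B).1 hu.2
  obtain ⟨he', hp'⟩ := (mem_Zg_iff hF B).1 hv.2
  exact unip_ext hF B he he' (hp.trans hp'.symm) h

/-- The scalars act on the central coordinates. -/
theorem smul_mem_Ts {a : Fˣ} (ha : a ∈ Cs K B) {x : F} (hx : x ∈ Ts K B) :
    (a : F) ^ (q + 1) * x ∈ Ts K B := by
  obtain ⟨k, hk, hka⟩ := exists_of_mem_Cs K B ha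
  obtain ⟨u, hu, rfl⟩ := hx
  obtain ⟨he, hp⟩ := (mem_Zg_iff hF B).1 hu.2
  exact ⟨k * u * k⁻¹, ⟨K.mul_mem (K.mul_mem hk hu.1) (K.inv_mem hk), conj_mem hF a.ne_zero hka hu.2⟩,
    tau_conj hF B hka he hp⟩

/-- Commutators give central coordinates. -/
theorem comm_mem_Ts {x y : F} (hx : x ∈ Vs K B hF) (hy : y ∈ Vs K B hF) :
    x ^ q * y - y ^ q * x ∈ Ts K B := by
  obtain ⟨u, hu, rfl⟩ := hx
  obtain ⟨v, hv, rfl⟩ := hy
  have hue : mat u *ᵥ B.e = B.e := hu.2
  have hve : mat v *ᵥ B.e = B.e := hv.2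
  set w := u * v * (v * u)⁻¹ with hwdef
  have hw : w ∈ K ⊓ Ue F q B.e := mul_mem (mul_mem hu hv) (inv_mem (mul_mem hv hu))
  have hwe : mat w *ᵥ B.e = B.e := hw.2
  have hvu : mat (v * u) *ᵥ B.e = B.e := (mul_mem hv hu : v * u ∈ K ⊓ Ue F q B.e).2
  have hmul : w * (v * u) = u * v := by rw [hwdef, inv_mul_cancel_right]
  have hp : phi B w = 0 := by
    have h := phi_mul hF B hwe hvu
    rw [hmul, phi_mul hF B hue hve, phi_mul hF B hve hue] at h
    linear_combination -h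
  refine ⟨w, ⟨hw.1, (mem_Zg_iff hF B).2 ⟨hwe, hp⟩⟩, ?_⟩
  have h := tau_mul hF B hwe hvu
  rw [hmul, hp, mul_zero, sub_zero, tau_mul hF B hue hve, tau_mul hF B hve hue] at h
  show tau B w = _
  linear_combination -h

/-- In characteristic two squares give central coordinates. -/
theorem sq_mem_Ts [CharP F 2] {x : F} (hx : x ∈ Vs K B hF) : x ^ (q + 1) ∈ Ts K B := by
  obtain ⟨u, hu, rfl⟩ := hx
  have hue : mat u *ᵥ B.e = B.e := hu.2
  have h2 : (2 : F) = 0 := CharTwo.two_eq_zero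
  have huu : mat (u * u) *ᵥ B.e = B.e := (mul_mem hu hu : u * u ∈ K ⊓ Ue F q B.e).2
  refine ⟨u * u, ⟨K.mul_mem hu.1 hu.1, (mem_Zg_iff hF B).2 ⟨huu, ?_⟩⟩, ?_⟩
  · rw [phi_mul hF B hue hue]
    linear_combination phi B u * h2
  · show tau B (u * u) = _
    rw [tau_mul hF B hue hue, pow_succ]
    linear_combination (tau B u - phi B u ^ q * phi B u) * h2

/-- If there are no central coordinates the others lie in one line over the fixed field. -/
theorem line_of_bot (h : Nat.card ↥(K ⊓ Zg F q B.e) = 1) {x y : F} (hx : x ∈ Vs K B hF)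
    (hy : y ∈ Vs K B hF) : x ^ q * y = y ^ q * x := by
  have hs : Subsingleton (Ts K B) := by
    rw [← natCard_Ts hF K B] at h
    exact (Nat.card_eq_one_iff_unique.1 h).1
  exact sub_eq_zero.1 (congrArg Subtype.val
    (hs.elim ⟨_, comm_mem_Ts hF K B hx hy⟩ ⟨0, zero_mem_Ts hF K B⟩))

/-- The coordinates are no more than the square of the number of central ones, or than `q`. -/
theorem card_Vs_le : Nat.card (Vs K B hF) ≤ max q (Nat.card ↥(K ⊓ Zg F q B.e) ^ 2) := by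
  classical
  by_cases hl : ∀ x ∈ Vs K B hF, ∀ y ∈ Vs K B hF, x ^ q * y = y ^ q * x
  · exact le_max_of_le_left (Bounds.line_bounds hF K B hl).1
  push Not at hl
  obtain ⟨x, hx, y, hy, hxy⟩ := hl
  refine le_max_of_le_right ?_
  rw [← natCard_Ts hF K B, pow_two, ← Nat.card_prod]
  refine Nat.card_le_card_of_injective (fun v : Vs K B hF =>
    ((⟨_, comm_mem_Ts hF K B hx v.2⟩, ⟨_, comm_mem_Ts hF K B hy v.2⟩) : Ts K B × Ts K B)) ?_
  intro v v' h
  obtain ⟨h1, h2⟩ := Prod.ext_iff.1 h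
  have h1' : x ^ q * (v : F) - (v : F) ^ q * x = x ^ q * (v' : F) - (v' : F) ^ q * x :=
    congrArg Subtype.val h1
  have h2' : y ^ q * (v : F) - (v : F) ^ q * y = y ^ q * (v' : F) - (v' : F) ^ q * y :=
    congrArg Subtype.val h2
  have hq : ((v : F) - (v' : F)) ^ q = (v : F) ^ q - (v' : F) ^ q := by
    simp only [← HermStd.qHom_apply hF, map_sub]
  have hmul : ((v : F) - (v' : F)) * (x ^ q * y - y ^ q * x) = 0 := by
    linear_combination y * h1' - x * h2'
  exact Subtype.ext (sub_eq_zero.1 ((mul_eq_zero.1 hmul).resolve_right (sub_ne_zero.2 hxy)))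

end Cfsg.Agent.SimpleFacts.MinIndexPSUThree.Values
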