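import Cfsg.Agent.Lib.Classical.UnitarySimple
import Cfsg.Agent.Lib.Classical.UnitaryThreeTriple
import Cfsg.Agent.SimpleFacts.UnitaryThreeSections

/-!
# Point stabilisers of `SU₃(q)` in the coordinates of a frame

A frame is a hyperbolic pair `e`, `f` with an orthogonal unit vector `w`.
-/

set_option autoImplicit false
set_option linter.unusedSectionVars false
set_option linter.unusedSimpArgs false

namespace Cfsg.Agent.SimpleFacts.MinIndexPSUThree.Borel

open Matrix Cfsg.Agent.Classical Cfsg.Agent.Classical.Unitary Cfsg.Agent.Forms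

universe u

variable {F : Type u} [Field F] {q : ℕ}

local notation "Vec" => (Fin 3 → F)
local notation "H" => Cfsg.hermForm 3 F q
local notation "SU3" => Cfsg.SU 3 F q

/-- A hyperbolic pair with an orthogonal unit vector. -/
structure Frame (F : Type u) [Field F] (q : ℕ) where
  e : Fin 3 → F
  f : Fin 3 → F
  w : Fin 3 → F
  he : Cfsg.hermForm 3 F q e e = 0
  hf : Cfsg.hermForm 3 F q f f = 0
  hef : Cfsg.hermForm 3 F q e f = 1
  hwe : Cfsg.hermForm 3 F q w e = 0
  hwf : Cfsg.hermForm 3 F q w f = 0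
  hww : Cfsg.hermForm 3 F q w w = 1

theorem e_ne (B : Frame F q) : B.e ≠ 0 := fun h => by
  have := B.hef
  rw [h, H_zero_left] at this
  exact zero_ne_one this

theorem f_ne [Fintype F] (hF : Fintype.card F = q ^ 2) (B : Frame F q) : B.f ≠ 0 := fun h => by
  have := B.hef
  rw [h, H_zero_right hF] at this
  exact zero_ne_one this

theorem w_ne (B : Frame F q) : B.w ≠ 0 := fun h => by
  have := B.hww
  rw [h, H_zero_left] at this
  exact zero_ne_one this

variable [Fintype F] (hF : Fintype.card F = q ^ 2) (B : Frame F q)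

include hF

theorem hfe : H B.f B.e = 1 := by rw [← H_conj hF, B.hef, one_pow]

theorem hew : H B.e B.w = 0 := (H_eq_zero_comm hF).1 B.hwe

theorem hfw : H B.f B.w = 0 := (H_eq_zero_comm hF).1 B.hwf

theorem decomp (x : Vec) : x = H x B.f • B.e + H x B.e • B.f + H x B.w • B.w := by
  refine sub_eq_zero.1 (AutPSU.Radical.eq_zero_three hF rfl B.he B.hf B.hef B.hwe B.hwf B.hww ?_ ?_ ?_) <;>
    simp [H_sub_left, H_add_left, H_smul_left, B.he, B.hf, B.hef, hfe hF B, B.hwe, B.hwf, B.hww,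
      hew hF B, hfw hF B]

theorem ext {k l : SU3} (he : mat k *ᵥ B.e = mat l *ᵥ B.e) (hf : mat k *ᵥ B.f = mat l *ᵥ B.f)
    (hw : mat k *ᵥ B.w = mat l *ᵥ B.w) : k = l :=
  SU_ext fun x => by
    rw [decomp hF B x]
    simp only [Matrix.mulVec_add, Matrix.mulVec_smul, he, hf, hw]

theorem exists_frame {e : Vec} (he : H e e = 0) (he0 : e ≠ 0) : ∃ B : Frame F q, B.e = e := by
  obtain ⟨f, w, h1, h2, h3, h4, h5⟩ := UnitaryThreeTriple.exists_base hF he he0
  exact ⟨⟨e, f, w, he, h1, h2, h3, h4, h5⟩, rfl⟩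

theorem exists_frame_default : Nonempty (Frame F q) := by
  obtain ⟨e, he, he1, -, -⟩ := exists_isotropic_pair (n := 3) hF (0 : Fin 3) 1 (by decide)
  obtain ⟨B, -⟩ := exists_frame hF he (fun h => by simp [h] at he1)
  exact ⟨B⟩

/-- A frame with prescribed unit vector. -/
theorem exists_frame_unit {v : Vec} (hv : H v v = 1) : ∃ B : Frame F q, B.w = v := by
  obtain ⟨B⟩ := exists_frame_default hF
  obtain ⟨g, a, hg⟩ := UnitaryThreeReflection.exists_move hF B.hww hv
  have ha : a ≠ 0 := fun h => mat_mulVec_ne_zero g (w_ne B) (by rw [hg, h, zero_smul])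
  have key : ∀ x : Vec, H B.w x = 0 → H v (mat g *ᵥ x) = 0 := fun x hx => by
    have h1 := SU_H g B.w x
    rw [hg, H_smul_left, hx] at h1
    exact (mul_eq_zero.1 h1).resolve_left ha
  exact ⟨⟨mat g *ᵥ B.e, mat g *ᵥ B.f, v, by rw [SU_H, B.he], by rw [SU_H, B.hf],
    by rw [SU_H, B.hef], key _ B.hwe, key _ B.hwf, hv⟩, rfl⟩

/-- An element fixing the line of `e`, in coordinates. -/
theorem triangular {k : SU3} {a : F} (hk : mat k *ᵥ B.e = a • B.e) :
    a ≠ 0 ∧ mat k *ᵥ B.w = (a ^ q / a) • B.w + H (mat k *ᵥ B.w) B.f • B.e ∧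
      mat k *ᵥ B.f = (a ^ q)⁻¹ • B.f + H (mat k *ᵥ B.f) B.w • B.w + H (mat k *ᵥ B.f) B.f • B.e := by
  have ha : a ≠ 0 := fun h => mat_mulVec_ne_zero k (e_ne B) (by rw [hk, h, zero_smul])
  have haq : a ^ q ≠ 0 := pow_ne_zero _ ha
  have hwe' : H (mat k *ᵥ B.w) B.e = 0 := by
    have h1 := SU_H k B.w B.e
    rw [hk, H_smul_right, B.hwe] at h1
    exact (mul_eq_zero.1 h1).resolve_left haq
  have hfe' : H (mat k *ᵥ B.f) B.e = (a ^ q)⁻¹ := by
    have h1 := SU_H k B.f B.e
    rw [hk, H_smul_right, hfe hF B] at h1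
    exact eq_inv_of_mul_eq_one_right h1
  have hw' : mat k *ᵥ B.w = H (mat k *ᵥ B.w) B.w • B.w + H (mat k *ᵥ B.w) B.f • B.e := by
    conv_lhs => rw [decomp hF B (mat k *ᵥ B.w)]
    rw [hwe', zero_smul, add_zero, add_comm]
  have hf' : mat k *ᵥ B.f = (a ^ q)⁻¹ • B.f + H (mat k *ᵥ B.f) B.w • B.w + H (mat k *ᵥ B.f) B.f • B.e := by
    conv_lhs => rw [decomp hF B (mat k *ᵥ B.f)]
    rw [hfe']
    abel
  refine ⟨ha, ?_, hf'⟩
  set b := H (mat k *ᵥ B.w) B.w
  set c := H (mat k *ᵥ B.w) B.f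
  set g := H (mat k *ᵥ B.f) B.w
  set d := H (mat k *ᵥ B.f) B.f
  suffices hb : b = a ^ q / a by rw [← hb]; exact hw'
  set T : Matrix (Fin 3) (Fin 3) F := Matrix.of fun i j => (![B.e, B.w, B.f] j) i with hT
  set U : Matrix (Fin 3) (Fin 3) F := !![a, c, d; 0, b, g; 0, 0, (a ^ q)⁻¹] with hU
  have hcol : mat k * T = T * U := by
    ext i j
    have e1 := congrFun hk i
    have e2 := congrFun hw' i
    have e3 := congrFun hf' i
    simp only [Matrix.mulVec, dotProduct, Fin.sum_univ_three, Pi.add_apply, Pi.smul_apply,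
      smul_eq_mul] at e1 e2 e3
    fin_cases j <;> simp [hT, hU, Matrix.mul_apply, Fin.sum_univ_three, e1, e2, e3] <;> ring
  have hTdet : T.det ≠ 0 := by
    intro h0
    obtain ⟨x, hx0, hx⟩ := Matrix.exists_mulVec_eq_zero_iff.2 h0
    have hlin : x 0 • B.e + x 1 • B.w + x 2 • B.f = 0 := by
      funext i
      have := congrFun hx i
      simp [hT, Matrix.mulVec, dotProduct, Fin.sum_univ_three] at this
      simp only [Pi.add_apply, Pi.smul_apply, smul_eq_mul, Pi.zero_apply]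
      linear_combination this
    have c0 := congrArg (fun v => H v B.f) hlin
    have c1 := congrArg (fun v => H v B.w) hlin
    have c2 := congrArg (fun v => H v B.e) hlin
    simp [H_add_left, H_smul_left, H_zero_left, B.he, B.hf, B.hef, hfe hF B, B.hwe, B.hwf, B.hww,
      hew hF B, hfw hF B] at c0 c1 c2
    exact hx0 (funext fun i => by fin_cases i <;> assumption)
  have h1 := congrArg Matrix.det hcol
  rw [Matrix.det_mul, Matrix.det_mul, show (mat k).det = 1 from k.1.2, one_mul, hU] at h1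
  have h2 : a * b * (a ^ q)⁻¹ = 1 := by
    refine mul_left_cancel₀ hTdet ?_
    rw [mul_one]
    conv_rhs => rw [h1]
    simp [Matrix.det_fin_three]
  field_simp at h2
  rw [eq_div_iff ha]
  linear_combination h2

/-- The coordinate of an element fixing `e`. -/
def phi (B : Frame F q) (u : Cfsg.SU 3 F q) : F := Cfsg.hermForm 3 F q (mat u *ᵥ B.w) B.f

/-- The last coordinate of an element fixing `e`. -/
def tau (B : Frame F q) (u : Cfsg.SU 3 F q) : F := Cfsg.hermForm 3 F q (mat u *ᵥ B.f) B.f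

theorem unip_w {u : SU3} (hu : mat u *ᵥ B.e = B.e) : mat u *ᵥ B.w = B.w + phi B u • B.e := by
  obtain ⟨-, h, -⟩ := triangular hF B (k := u) (a := 1) (by rw [hu, one_smul])
  rwa [one_pow, div_one, one_smul] at h

theorem unip_f {u : SU3} (hu : mat u *ᵥ B.e = B.e) :
    mat u *ᵥ B.f = B.f - phi B u ^ q • B.w + tau B u • B.e := by
  obtain ⟨-, -, h⟩ := triangular hF B (k := u) (a := 1) (by rw [hu, one_smul])
  rw [one_pow, inv_one, one_smul] at h
  set g := H (mat u *ᵥ B.f) B.w with hg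
  have h1 : H (mat u *ᵥ B.f) (mat u *ᵥ B.w) = 0 := by rw [SU_H, hfw hF B]
  rw [unip_w hF B hu, h] at h1
  simp only [H_add_left, H_add_right hF, H_smul_left, H_smul_right, B.he, B.hef, hfe hF B, B.hwe,
    B.hwf, B.hww, hew hF B, hfw hF B] at h1
  rw [h, show g = -(phi B u ^ q) by linear_combination h1]
  rw [neg_smul, ← sub_eq_add_neg]
  rfl

theorem tau_add_conj {u : SU3} (hu : mat u *ᵥ B.e = B.e) :
    tau B u + tau B u ^ q = -(phi B u ^ (q + 1)) := by
  have h1 : H (mat u *ᵥ B.f) (mat u *ᵥ B.f) = 0 := by rw [SU_H, B.hf]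
  rw [unip_f hF B hu] at h1
  simp only [H_add_left, H_sub_left, H_add_right hF, H_sub_right hF, H_smul_left, H_smul_right,
    pow_qq hF, B.he, B.hf, B.hef, hfe hF B, B.hwe, B.hwf, B.hww, hew hF B, hfw hF B] at h1
  rw [pow_succ]
  linear_combination h1

theorem phi_mul {u v : SU3} (hu : mat u *ᵥ B.e = B.e) (hv : mat v *ᵥ B.e = B.e) :
    phi B (u * v) = phi B u + phi B v := by
  rw [phi, mul_mulVec, unip_w hF B hv, Matrix.mulVec_add, Matrix.mulVec_smul, hu, unip_w hF B hu]
  simp [H_add_left, H_smul_left, B.hef, B.hwf]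

theorem tau_mul {u v : SU3} (hu : mat u *ᵥ B.e = B.e) (hv : mat v *ᵥ B.e = B.e) :
    tau B (u * v) = tau B u + tau B v - phi B v ^ q * phi B u := by
  rw [tau, mul_mulVec, unip_f hF B hv, Matrix.mulVec_add, Matrix.mulVec_sub, Matrix.mulVec_smul,
    Matrix.mulVec_smul, hu, unip_w hF B hu, unip_f hF B hu]
  simp [H_add_left, H_sub_left, H_smul_left, B.hef, B.hwf, B.hf]
  ring

theorem phi_one : phi B (1 : SU3) = 0 := by rw [phi, mat_one, Matrix.one_mulVec, B.hwf]

theorem tau_one : tau B (1 : SU3) = 0 := by rw [tau, mat_one, Matrix.one_mulVec, B.hf]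

theorem unip_ext {u v : SU3} (hu : mat u *ᵥ B.e = B.e) (hv : mat v *ᵥ B.e = B.e)
    (hp : phi B u = phi B v) (ht : tau B u = tau B v) : u = v :=
  ext hF B (hu.trans hv.symm) (by rw [unip_f hF B hu, unip_f hF B hv, hp, ht])
    (by rw [unip_w hF B hu, unip_w hF B hv, hp])

/-- The effect of conjugation on the coordinates. -/
theorem phi_conj {k u : SU3} {a : F} (hk : mat k *ᵥ B.e = a • B.e) (hu : mat u *ᵥ B.e = B.e) :
    mat (k * u * k⁻¹) *ᵥ B.e = B.e ∧ phi B (k * u * k⁻¹) = a ^ 2 / a ^ q * phi B u := by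
  obtain ⟨ha, hw, -⟩ := triangular hF B hk
  have haq : a ^ q ≠ 0 := pow_ne_zero _ ha
  set c := H (mat k *ᵥ B.w) B.f with hc
  have key : ∀ x, mat (k * u * k⁻¹) *ᵥ (mat k *ᵥ x) = mat k *ᵥ (mat u *ᵥ x) := fun x => by
    rw [← mul_mulVec, inv_mul_cancel_right, mul_mulVec]
  have he' : mat (k * u * k⁻¹) *ᵥ B.e = B.e := by
    have h1 := key B.e
    rw [hu, hk, Matrix.mulVec_smul] at h1
    exact smul_right_injective _ ha h1
  refine ⟨he', ?_⟩
  have h1 := key B.w
  rw [unip_w hF B hu, Matrix.mulVec_add, Matrix.mulVec_smul, hk, hw, Matrix.mulVec_add,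
    Matrix.mulVec_smul, Matrix.mulVec_smul, he', unip_w hF B he'] at h1
  have h2 := congrArg (fun x => H x B.f) h1
  simp [H_add_left, H_smul_left, B.hef, B.hwf] at h2
  field_simp at h2 ⊢
  linear_combination h2

/-- The effect of conjugation on central coordinates. -/
theorem tau_conj {k u : SU3} {a : F} (hk : mat k *ᵥ B.e = a • B.e) (hu : mat u *ᵥ B.e = B.e)
    (h0 : phi B u = 0) : tau B (k * u * k⁻¹) = a ^ (q + 1) * tau B u := by
  obtain ⟨he', hphi⟩ := phi_conj hF B hk hu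
  rw [h0, mul_zero] at hphi
  obtain ⟨ha, -, hf⟩ := triangular hF B hk
  have haq : a ^ q ≠ 0 := pow_ne_zero _ ha
  have key : mat (k * u * k⁻¹) *ᵥ (mat k *ᵥ B.f) = mat k *ᵥ (mat u *ᵥ B.f) := by
    rw [← mul_mulVec, inv_mul_cancel_right, mul_mulVec]
  rw [unip_f hF B hu, h0, zero_pow (q_ne_zero hF), zero_smul, sub_zero, Matrix.mulVec_add,
    Matrix.mulVec_smul, hk, hf, Matrix.mulVec_add, Matrix.mulVec_add, Matrix.mulVec_smul,
    Matrix.mulVec_smul, Matrix.mulVec_smul, he', unip_w hF B he', hphi, unip_f hF B he', hphi,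
    zero_pow (q_ne_zero hF)] at key
  have h2 := congrArg (fun x => H x B.f) key
  simp [H_add_left, H_smul_left, B.hef, B.hwf, B.hf] at h2
  field_simp at h2
  rw [pow_succ]
  linear_combination h2

/-- Commuting elements have dependent coordinates. -/
theorem phi_dep {u v : SU3} (hu : mat u *ᵥ B.e = B.e) (hv : mat v *ᵥ B.e = B.e) (h : u * v = v * u) :
    phi B v ^ q * phi B u = phi B u ^ q * phi B v := by
  have h1 := tau_mul hF B hu hv
  rw [h, tau_mul hF B hv hu] at h1
  linear_combination h1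

/-- An element fixing `e` is unipotent at `e`. -/
theorem uni {u : SU3} (hu : mat u *ᵥ B.e = B.e) :
    UnitaryThreeSections.Uni B.e u := by
  refine ⟨hu, fun x hx => ⟨H x B.w * phi B u, ?_⟩⟩
  conv_lhs => rw [decomp hF B x, hx, zero_smul, add_zero]
  conv_rhs => arg 1; rw [decomp hF B x, hx, zero_smul, add_zero]
  rw [Matrix.mulVec_add, Matrix.mulVec_smul, Matrix.mulVec_smul, hu, unip_w hF B hu]
  module

end Cfsg.Agent.SimpleFacts.MinIndexPSUThree.Borel
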