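import Cfsg.Agent.SimpleFacts.MinIndexPSUThree.Sub

/-!
# Bounds on the scalars and on the coordinates
-/

set_option autoImplicit false
set_option linter.unusedSectionVars false
set_option linter.unusedSimpArgs false

namespace Cfsg.Agent.SimpleFacts.MinIndexPSUThree.Bounds

open Matrix Cfsg.Agent.Classical Cfsg.Agent.Classical.Unitary Cfsg.Agent.Forms
open Cfsg.Agent.SimpleFacts.MinIndexPSUThree.Borel
open Cfsg.Agent.SimpleFacts.MinIndexPSUThree.Plane
open Cfsg.Agent.SimpleFacts.MinIndexPSUThree.Group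
open Cfsg.Agent.SimpleFacts.MinIndexPSUThree.Sub

universe u

variable {F : Type u} [Field F] [Fintype F] {q : ℕ} (hF : Fintype.card F = q ^ 2)

local notation "Vec" => (Fin 3 → F)
local notation "H" => Cfsg.hermForm 3 F q
local notation "SU3" => Cfsg.SU 3 F q

variable (K : Subgroup (Cfsg.SU 3 F q)) (B : Frame F q)

include hF

theorem sq_sub_one : q ^ 2 - 1 = (q - 1) * (q + 1) := by rw [mul_comm, ← Nat.sq_sub_sq, one_pow]

theorem card_units : Nat.card Fˣ = q ^ 2 - 1 := by rw [natCard_units_F hF, sq_sub_one hF]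

/-- A subgroup of exponent dividing `g`. -/
theorem card_dvd_of_pow (A : Subgroup Fˣ) {g : ℕ} (h : ∀ a ∈ A, a ^ g = 1) :
    Nat.card A ∣ Nat.gcd (q ^ 2 - 1) g := by
  rw [← card_units hF, ← IsCyclic.card_powMonoidHom_ker]
  exact Subgroup.card_dvd_of_le fun a ha => MonoidHom.mem_ker.2 (h a ha)

/-- The scalars act semiregularly on nonzero coordinates. -/
theorem card_Cs_le {v : F} (hv : v ∈ Vs K B hF) (hv0 : v ≠ 0) :
    Nat.card (Cs K B) ≤ (Nat.card (Vs K B hF) - 1) * Nat.gcd (q ^ 2 - 1) (q - 2) := by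
  classical
  have hq1 := HermStd.one_lt_q hF
  let β : Cs K B →* Fˣ := (((powMonoidHom 2 : Fˣ →* Fˣ) / powMonoidHom q)).comp (Cs K B).subtype
  rw [← β.ker.card_mul_index, Subgroup.index_ker, mul_comm]
  refine Nat.mul_le_mul ?_ ?_
  · have hmem : ∀ b : β.range, ((b : Fˣ) : F) * v ∈ Vs K B hF ∧ ((b : Fˣ) : F) * v ≠ 0 := by
      rintro ⟨_, ⟨a, ha⟩, rfl⟩
      obtain ⟨k, hk, hka⟩ := exists_of_mem_Cs K B ha
      obtain ⟨u, hu, rfl⟩ := hv
      obtain ⟨h1, h2⟩ := phi_conj hF B hka hu.2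
      refine ⟨⟨k * u * k⁻¹, ⟨K.mul_mem (K.mul_mem hk hu.1) (K.inv_mem hk), h1⟩, ?_⟩,
        mul_ne_zero (Units.ne_zero _) hv0⟩
      rw [h2]
      simp [β]
    let G : β.range → {x : Vs K B hF // x ≠ 0} := fun b =>
      ⟨⟨_, (hmem b).1⟩, fun h => (hmem b).2 (congrArg Subtype.val h)⟩
    have hinj : Function.Injective G := fun a b h => by
      have h' : ((a : Fˣ) : F) * v = ((b : Fˣ) : F) * v :=
        congrArg (fun x : {x : Vs K B hF // x ≠ 0} => ((x : Vs K B hF) : F)) h
      exact Subtype.ext (Units.ext (mul_right_cancel₀ hv0 h'))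
    refine le_trans (Nat.card_le_card_of_injective _ hinj) (le_of_eq ?_)
    rw [Nat.card_eq_fintype_card, Fintype.card_subtype, Nat.card_eq_fintype_card,
      show (Finset.univ.filter fun x : Vs K B hF => x ≠ 0) = Finset.univ.erase 0 by ext x; simp,
      Finset.card_erase_of_mem (Finset.mem_univ _), Finset.card_univ]
  · have hle : Nat.card β.ker ≤ Nat.card (powMonoidHom (q - 2) : Fˣ →* Fˣ).ker := by
      refine Nat.card_le_card_of_injective (fun a => ⟨(a.1 : Fˣ), ?_⟩) fun a b h =>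
        Subtype.ext (Subtype.ext (congrArg Subtype.val h :))
      have h := MonoidHom.mem_ker.1 a.2
      simp only [β, MonoidHom.coe_comp, Function.comp_apply, Subgroup.coe_subtype, MonoidHom.div_apply,
        powMonoidHom_apply, div_eq_one] at h
      rw [MonoidHom.mem_ker, powMonoidHom_apply]
      refine mul_right_cancel (b := (a.1 : Fˣ) ^ 2) ?_
      rw [← pow_add, Nat.sub_add_cancel hq1, one_mul, ← h]
    refine hle.trans (le_of_eq ?_)
    rw [IsCyclic.card_powMonoidHom_ker, card_units hF]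

/-- Coordinates in one line form at most `q` elements, and the scalars then lie in a small subgroup. -/
theorem line_bounds (hline : ∀ x ∈ Vs K B hF, ∀ y ∈ Vs K B hF, x ^ q * y = y ^ q * x) :
    Nat.card (Vs K B hF) ≤ q ∧
      (Nat.card (Vs K B hF) ≠ 1 →
        Nat.card (Cs K B) ∣ (q - 1) * Nat.gcd (q + 1) (q - 2)) := by
  classical
  by_cases h0 : ∀ x ∈ Vs K B hF, x = 0
  · have : Subsingleton (Vs K B hF) :=
      ⟨fun a b => Subtype.ext ((h0 a a.2).trans (h0 b b.2).symm)⟩
    have h1 : Nat.card (Vs K B hF) = 1 := Nat.card_eq_one_iff_unique.2 ⟨this, ⟨0⟩⟩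
    exact ⟨by rw [h1]; exact (HermStd.one_lt_q hF).le, fun h => absurd h1 h⟩
  push Not at h0
  obtain ⟨v, hv, hv0⟩ := h0
  have hfix : ∀ x ∈ Vs K B hF, x / v ∈ fixField hF := fun x hx => by
    rw [mem_fixField, div_pow]
    field_simp
    linear_combination hline x hx v hv
  refine ⟨?_, fun _ => ?_⟩
  · refine le_trans (Nat.card_le_card_of_injective
      (fun x : Vs K B hF => (⟨(x : F) / v, hfix x x.2⟩ : fixField hF)) fun a b h => ?_)
      (natCard_fixField hF).le
    have h' : (a : F) / v = (b : F) / v := congrArg Subtype.val h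
    exact Subtype.ext (by field_simp at h'; exact h')
  · refine (card_dvd_of_pow hF _ (g := (q - 2) * (q - 1)) fun a ha => ?_).trans ?_
    · obtain ⟨k, hk, hka⟩ := exists_of_mem_Cs K B ha
      obtain ⟨u, hu, rfl⟩ := hv
      obtain ⟨h1, h2⟩ := phi_conj hF B hka hu.2
      have h := hfix _ ⟨k * u * k⁻¹, ⟨K.mul_mem (K.mul_mem hk hu.1) (K.inv_mem hk), h1⟩, rfl⟩
      rw [h2, mul_div_assoc, div_self hv0, mul_one, mem_fixField] at h
      have hb : (a : F) ^ 2 / (a : F) ^ q ≠ 0 :=
        div_ne_zero (pow_ne_zero _ a.ne_zero) (pow_ne_zero _ a.ne_zero)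
      have hq1 := HermStd.one_lt_q hF
      set β := (a : F) ^ 2 / (a : F) ^ q with hβ
      have hβ1 : β ^ (q - 1) = 1 := by
        refine mul_right_cancel₀ hb ?_
        rw [← pow_succ, Nat.sub_add_cancel hq1.le, h, one_mul]
      have hinv : β⁻¹ = (a : F) ^ (q - 2) := by
        rw [hβ, inv_div, eq_comm, eq_div_iff (pow_ne_zero _ a.ne_zero), ← pow_add,
          Nat.sub_add_cancel hq1]
      refine Units.ext ?_
      rw [Units.val_pow_eq_pow_val, Units.val_one, pow_mul, ← hinv, inv_pow, hβ1, inv_one]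
    · rw [sq_sub_one hF, mul_comm (q - 2), Nat.gcd_mul_left]

end Cfsg.Agent.SimpleFacts.MinIndexPSUThree.Bounds
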