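import Cfsg.Agent.SimpleFacts.MinIndexPSUThree.Borel
import Cfsg.Agent.Recognition.TwoByTwo

/-!
# The lines of the plane orthogonal to a unit vector

An element of `SU₃(q)` fixing the line of a unit vector fixes all, two, or exactly one line of the orthogonal
plane.
-/

set_option autoImplicit false
set_option linter.unusedSectionVars false
set_option linter.unusedSimpArgs false

namespace Cfsg.Agent.SimpleFacts.MinIndexPSUThree.Plane

open Matrix Cfsg.Agent.Classical Cfsg.Agent.Classical.Unitary Cfsg.Agent.Forms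
open Cfsg.Agent.SimpleFacts.MinIndexPSUThree.Borel
open scoped LinearAlgebra.Projectivization

universe u

variable {F : Type u} [Field F] [Fintype F] {q : ℕ}

local notation "Vec" => (Fin 3 → F)
local notation "H" => Cfsg.hermForm 3 F q
local notation "SU3" => Cfsg.SU 3 F q

/-- The elements fixing the line of `v`. -/
def fixLine (F : Type u) [Field F] [Fintype F] (q : ℕ) (v : Fin 3 → F) : Subgroup (Cfsg.SU 3 F q) where
  carrier := {k | ∃ b : F, b ≠ 0 ∧ mat k *ᵥ v = b • v}
  one_mem' := ⟨1, one_ne_zero, by rw [mat_one, Matrix.one_mulVec, one_smul]⟩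
  mul_mem' := by
    rintro k l ⟨b, hb, hk⟩ ⟨c, hc, hl⟩
    exact ⟨c * b, mul_ne_zero hc hb, by rw [mul_mulVec, hl, Matrix.mulVec_smul, hk, smul_smul]⟩
  inv_mem' := by
    rintro k ⟨b, hb, hk⟩
    refine ⟨b⁻¹, inv_ne_zero hb, ?_⟩
    conv_rhs => rw [← Matrix.one_mulVec v, ← mat_one (q := q), ← inv_mul_cancel k, mul_mulVec, hk,
      Matrix.mulVec_smul, smul_smul, inv_mul_cancel₀ hb, one_smul]

theorem mem_fixLine {v : Vec} {k : SU3} :
    k ∈ fixLine F q v ↔ ∃ b : F, b ≠ 0 ∧ mat k *ᵥ v = b • v := Iff.rfl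

/-- The lines orthogonal to `v`. -/
def PlanePt (F : Type u) [Field F] (q : ℕ) (v : Fin 3 → F) : Type u :=
  {l : ℙ F (Fin 3 → F) // Cfsg.hermForm 3 F q l.rep v = 0}

theorem perp_map {v : Vec} (k : fixLine F q v) {x : Vec} (hx : H x v = 0) :
    H (mat (k : SU3) *ᵥ x) v = 0 := by
  obtain ⟨b, hb, hk⟩ := k.2
  have h1 := SU_H (k : SU3) x v
  rw [hk, H_smul_right, hx] at h1
  exact (mul_eq_zero.1 h1).resolve_left (pow_ne_zero _ hb)

theorem mk_perp {v u : Vec} (hu : u ≠ 0) (h : H u v = 0) :
    H (Projectivization.mk F u hu).rep v = 0 := by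
  obtain ⟨a, -, ha⟩ := rep_mk u hu
  rw [ha, H_smul_left, h, mul_zero]

/-- The line of `u`. -/
noncomputable def pl (v u : Vec) (hu : u ≠ 0) (h : H u v = 0) : PlanePt F q v :=
  ⟨Projectivization.mk F u hu, mk_perp hu h⟩

theorem exists_pl {v : Vec} (l : PlanePt F q v) :
    ∃ (u : Vec) (hu : u ≠ 0) (h : H u v = 0), pl v u hu h = l :=
  ⟨_, l.1.rep_nonzero, l.2, Subtype.ext (Projectivization.mk_rep _)⟩

theorem pl_eq_pl {v u u' : Vec} {hu : u ≠ 0} {hu' : u' ≠ 0} {h : H u v = 0} {h' : H u' v = 0} :
    pl v u hu h = pl v u' hu' h' ↔ ∃ a : F, a • u' = u :=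
  Subtype.ext_iff.trans (Projectivization.mk_eq_mk_iff' F u u' hu hu')

noncomputable instance instSMulPlanePt (v : Vec) : SMul (fixLine F q v) (PlanePt F q v) where
  smul k l := pl v (mat (k : SU3) *ᵥ l.1.rep) (mat_mulVec_ne_zero _ l.1.rep_nonzero) (perp_map k l.2)

theorem smul_pl {v u : Vec} (k : fixLine F q v) (hu : u ≠ 0) (h : H u v = 0) :
    k • pl v u hu h = pl v (mat (k : SU3) *ᵥ u) (mat_mulVec_ne_zero _ hu) (perp_map k h) := by
  obtain ⟨a, -, ha⟩ := rep_mk u hu
  refine pl_eq_pl.2 ⟨a, ?_⟩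
  show _ = mat (k : SU3) *ᵥ (Projectivization.mk F u hu).rep
  rw [ha, Matrix.mulVec_smul]

noncomputable instance instMulActionPlanePt (v : Vec) :
    MulAction (fixLine F q v) (PlanePt F q v) where
  one_smul l := by
    obtain ⟨u, hu, h, rfl⟩ := exists_pl l
    rw [smul_pl]
    exact pl_eq_pl.2 ⟨1, by rw [one_smul, OneMemClass.coe_one, mat_one, Matrix.one_mulVec]⟩
  mul_smul k k' l := by
    obtain ⟨u, hu, h, rfl⟩ := exists_pl l
    rw [smul_pl, smul_pl, smul_pl]
    exact pl_eq_pl.2 ⟨1, by rw [one_smul, Subgroup.coe_mul, mul_mulVec]⟩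

theorem fixed_iff {v u : Vec} (k : fixLine F q v) (hu : u ≠ 0) (h : H u v = 0) :
    k • pl v u hu h = pl v u hu h ↔ ∃ s : F, mat (k : SU3) *ᵥ u = s • u := by
  rw [smul_pl, pl_eq_pl]
  exact ⟨fun ⟨a, ha⟩ => ⟨a, ha.symm⟩, fun ⟨a, ha⟩ => ⟨a, ha.symm⟩⟩

instance instFinitePlanePt (v : Vec) : Finite (PlanePt F q v) :=
  inferInstanceAs (Finite {l : ℙ F (Fin 3 → F) // Cfsg.hermForm 3 F q l.rep v = 0})

section Eigen

variable (hF : Fintype.card F = q ^ 2)

include hF

/-- The coefficients of a unitary map of a hyperbolic plane. -/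
theorem plane_rel {A B C D : F} (h1 : A * D ^ q + C * B ^ q = 1) (h2 : A * C ^ q + C * A ^ q = 0)
    (h3 : B * D ^ q + D * B ^ q = 0) :
    A ^ q * (A * D - B * C) = A ∧ D ^ q * (A * D - B * C) = D ∧
      (A * D - B * C) ^ (q + 1) = 1 := by
  have h1' : A ^ q * D + C ^ q * B = 1 := by
    have := congrArg (HermStd.qHom hF) h1
    simpa [HermStd.qHom_apply, pow_qq hF, map_add, map_mul] using this
  have hA : A ^ q * (A * D - B * C) = A := by linear_combination A * h1' - B * h2
  have hD : D ^ q * (A * D - B * C) = D := by linear_combination D * h1 - C * h3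
  refine ⟨hA, hD, ?_⟩
  set δ := A * D - B * C with hδ
  have hA' : A * δ ^ q = A ^ q := by
    have := congrArg (HermStd.qHom hF) hA
    simpa [HermStd.qHom_apply, pow_qq hF, map_mul] using this
  have hD' : D * δ ^ q = D ^ q := by
    have := congrArg (HermStd.qHom hF) hD
    simpa [HermStd.qHom_apply, pow_qq hF, map_mul] using this
  rw [pow_succ]
  by_cases hA0 : A = 0
  · by_cases hD0 : D = 0
    · have e : δ ^ q = -(B ^ q * C ^ q) := by
        rw [hδ, hA0, hD0, ← HermStd.qHom_apply hF, map_sub, map_mul, map_mul, map_zero, zero_mul,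
          zero_sub]
        simp [HermStd.qHom_apply]
      rw [hA0, hD0, zero_mul, zero_add] at h1
      rw [hA0, hD0, zero_pow (q_ne_zero hF), zero_mul, zero_add] at h1'
      rw [e, hδ, hA0, hD0]
      linear_combination (C ^ q * B) * h1 + h1'
    · refine mul_left_cancel₀ hD0 ?_
      linear_combination δ * hD' + hD
  · refine mul_left_cancel₀ hA0 ?_
    linear_combination δ * hA' + hA

/-- The eigenvalues of a unitary map of a hyperbolic plane lie in `F`. -/
theorem exists_root {A B C D : F} (h1 : A * D ^ q + C * B ^ q = 1) (h2 : A * C ^ q + C * A ^ q = 0)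
    (h3 : B * D ^ q + D * B ^ q = 0) : ∃ r : F, (A - r) * (D - r) = B * C := by
  obtain ⟨hA, hD, hN⟩ := plane_rel hF h1 h2 h3
  set δ := A * D - B * C with hδ
  have hT : (A + D) ^ q * δ = A + D := by rw [HermStd.add_pow_q hF]; linear_combination hA + hD
  have hδ0 : δ ≠ 0 := fun h => by rw [h, zero_pow (Nat.succ_ne_zero q)] at hN; exact zero_ne_one hN
  set ι := algebraMap F (AlgebraicClosure F) with hι
  obtain ⟨r, hr⟩ : ∃ r : AlgebraicClosure F,
      (Polynomial.X ^ 2 - Polynomial.C (ι (A + D)) * Polynomial.X + Polynomial.C (ι δ)).IsRoot r := by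
    refine IsAlgClosed.exists_root _ ?_
    rw [show (Polynomial.X ^ 2 - Polynomial.C (ι (A + D)) * Polynomial.X + Polynomial.C (ι δ) :
      Polynomial (AlgebraicClosure F)) = Polynomial.C (1 : AlgebraicClosure F) * Polynomial.X ^ 2 +
        Polynomial.C (-(ι (A + D))) * Polynomial.X + Polynomial.C (ι δ) by simp; ring,
      Polynomial.degree_quadratic one_ne_zero]
    decide
  simp only [Polynomial.IsRoot, Polynomial.eval_add, Polynomial.eval_sub, Polynomial.eval_pow,
    Polynomial.eval_X, Polynomial.eval_mul, Polynomial.eval_C] at hr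
  obtain ⟨p, hp⟩ := CharP.exists F
  obtain ⟨f, hpp, hf⟩ := FiniteField.card F p
  have : Fact p.Prime := ⟨hpp⟩
  have : CharP (AlgebraicClosure F) p := charP_of_injective_algebraMap ι.injective p
  obtain ⟨j, hj⟩ : ∃ j, q = p ^ j := by
    have h := hf.symm.trans hF
    obtain ⟨j, -, hj⟩ := (Nat.dvd_prime_pow hpp).1 (h ▸ dvd_pow_self q two_ne_zero)
    exact ⟨j, hj⟩
  have hr0 : r ≠ 0 := by
    intro h
    rw [h] at hr
    refine hδ0 (ι.injective ?_)
    rw [map_zero]
    linear_combination hr
  have hq' : r ^ (q + q) - ι ((A + D) ^ q) * r ^ q + ι (δ ^ q) = 0 := by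
    have h := congrArg (fun x => x ^ p ^ j) hr
    simp only [add_pow_char_pow, sub_pow_char_pow, mul_pow,
      zero_pow (pow_ne_zero j hpp.ne_zero)] at h
    rw [← hj, ← map_pow, ← map_pow, ← pow_mul, two_mul] at h
    exact h
  have hrq0 : r ^ q ≠ 0 := pow_ne_zero _ hr0
  have hTι : ι ((A + D) ^ q) * ι δ = ι (A + D) := by rw [← map_mul, hT]
  have hNι : ι (δ ^ q) * ι δ = 1 := by rw [← map_mul, ← pow_succ, hN, map_one]
  have hsecond : ((r ^ q)⁻¹ - r) * ((r ^ q)⁻¹ - (ι (A + D) - r)) = 0 := by
    field_simp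
    linear_combination (ι δ) * hq' - hNι + (r ^ q) * hTι - (r ^ q * r ^ q) * hr - pow_add r q q * ι δ
  have hfix : r ^ Fintype.card F = r := by
    rw [hF, pow_two, pow_mul]
    rcases mul_eq_zero.1 hsecond with h | h
    · have e : r ^ q = r⁻¹ := by rw [← _root_.inv_inj, inv_inv]; linear_combination h
      rw [e, inv_pow, e, inv_inv]
    · have e : r ^ q * ι δ = r := by
        field_simp at h
        linear_combination (-r) * h + (r ^ q) * hr
      calc (r ^ q) ^ q = (r ^ q) ^ q * (ι (δ ^ q) * ι δ) := by rw [hNι, mul_one]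
        _ = (r ^ q * ι δ) ^ q * ι δ := by rw [mul_pow, map_pow]; ring
        _ = r ^ q * ι δ := by conv_lhs => rw [e]
        _ = r := e
  obtain ⟨a, ha⟩ := Recognition.TwoByTwo.mem_range_of_pow_card r hfix
  refine ⟨a, ι.injective ?_⟩
  rw [map_mul, map_mul, map_sub, map_sub]
  rw [← ha, hδ] at hr
  simp only [map_add, map_sub, map_mul] at hr
  linear_combination hr

end Eigen

section Fixed

variable (hF : Fintype.card F = q ^ 2) (B : Frame F q)

include hF

theorem plane_decomp {x : Vec} (hx : H x B.w = 0) : x = H x B.f • B.e + H x B.e • B.f := by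
  conv_lhs => rw [decomp hF B x, hx, zero_smul, add_zero]

/-- The coefficients on the plane of an element fixing the line of `w`. -/
theorem coeffs (k : fixLine F q B.w) :
    mat (k : SU3) *ᵥ B.e =
        H (mat (k : SU3) *ᵥ B.e) B.f • B.e + H (mat (k : SU3) *ᵥ B.e) B.e • B.f ∧
      mat (k : SU3) *ᵥ B.f =
        H (mat (k : SU3) *ᵥ B.f) B.f • B.e + H (mat (k : SU3) *ᵥ B.f) B.e • B.f :=
  ⟨plane_decomp hF B (perp_map k (hew hF B)), plane_decomp hF B (perp_map k (hfw hF B))⟩

theorem lin_smul (k : fixLine F q B.w) (s α β : F) :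
    mat (k : SU3) *ᵥ (α • B.e + β • B.f) = s • (α • B.e + β • B.f) ↔
      (H (mat (k : SU3) *ᵥ B.e) B.f - s) * α + H (mat (k : SU3) *ᵥ B.f) B.f * β = 0 ∧
        H (mat (k : SU3) *ᵥ B.e) B.e * α + (H (mat (k : SU3) *ᵥ B.f) B.e - s) * β = 0 := by
  obtain ⟨he, hf⟩ := coeffs hF B k
  generalize H (mat (k : SU3) *ᵥ B.e) B.f = A at he ⊢
  generalize H (mat (k : SU3) *ᵥ B.e) B.e = C at he ⊢
  generalize H (mat (k : SU3) *ᵥ B.f) B.f = Bc at hf ⊢
  generalize H (mat (k : SU3) *ᵥ B.f) B.e = D at hf ⊢
  rw [Matrix.mulVec_add, Matrix.mulVec_smul, Matrix.mulVec_smul, he, hf]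
  constructor
  · intro h
    have h1 := congrArg (fun x => H x B.f) h
    have h2 := congrArg (fun x => H x B.e) h
    simp [H_add_left, H_smul_left, B.he, B.hf, B.hef, hfe hF B] at h1 h2
    exact ⟨by linear_combination h1, by linear_combination h2⟩
  · rintro ⟨h1, h2⟩
    have g1 := congrArg (fun c : F => c • B.e) h1
    have g2 := congrArg (fun c : F => c • B.f) h2
    simp only [zero_smul] at g1 g2
    linear_combination (norm := module) g1 + g2

/-- The plane part of an element is scalar. -/
def Scalar (B : Frame F q) (k : Cfsg.SU 3 F q) : Prop :=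
  ∃ r : F, mat k *ᵥ B.e = r • B.e ∧ mat k *ᵥ B.f = r • B.f

theorem scalar_fixed {k : fixLine F q B.w} (hk : Scalar B (k : SU3)) (l : PlanePt F q B.w) :
    k • l = l := by
  obtain ⟨r, he, hf⟩ := hk
  obtain ⟨u, hu, h, rfl⟩ := exists_pl l
  refine (fixed_iff k hu h).2 ⟨r, ?_⟩
  rw [plane_decomp hF B h, Matrix.mulVec_add, Matrix.mulVec_smul, Matrix.mulVec_smul, he, hf]
  module

theorem plane_pow {k : SU3} {r c : F} {u u' : Vec} (hu : mat k *ᵥ u = r • u)
    (hu' : mat k *ᵥ u' = r • u' + c • u) (n : ℕ) :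
    mat (k ^ n) *ᵥ u = r ^ n • u ∧
      r • (mat (k ^ n) *ᵥ u') = r • (r ^ n • u') + ((n : F) * r ^ n * c) • u := by
  induction n with
  | zero => simp [mat_one]
  | succ n ih =>
    refine ⟨by rw [pow_succ', mul_mulVec, ih.1, Matrix.mulVec_smul, hu, smul_smul, ← pow_succ], ?_⟩
    rw [pow_succ', mul_mulVec, ← Matrix.mulVec_smul, ih.2, Matrix.mulVec_add, Matrix.mulVec_smul,
      Matrix.mulVec_smul, Matrix.mulVec_smul, hu', hu]
    push_cast
    module

/-- A non-scalar element fixes two lines, or exactly one, which is isotropic; in the second case the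
characteristic divides its order. -/
theorem fixed_count (p : ℕ) [CharP F p] (k : fixLine F q B.w) (hk : ¬ Scalar B (k : SU3)) :
    Nat.card {l : PlanePt F q B.w // k • l = l} = 2 ∨
      (Nat.card {l : PlanePt F q B.w // k • l = l} = 1 ∧ p ∣ orderOf k ∧
        ∀ l : PlanePt F q B.w, k • l = l → H l.1.rep l.1.rep = 0) := by
  classical
  obtain ⟨he, hf⟩ := coeffs hF B k
  set A := H (mat (k : SU3) *ᵥ B.e) B.f with hA
  set C := H (mat (k : SU3) *ᵥ B.e) B.e with hC
  set Bc := H (mat (k : SU3) *ᵥ B.f) B.f with hB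
  set D := H (mat (k : SU3) *ᵥ B.f) B.e with hD
  have r1 : A * D ^ q + C * Bc ^ q = 1 := by
    have h := SU_H (k : SU3) B.e B.f
    rw [he, hf, B.hef] at h
    simp [H_add_left, H_add_right hF, H_smul_left, H_smul_right, B.he, B.hf, B.hef, hfe hF B] at h
    linear_combination h
  have r2 : A * C ^ q + C * A ^ q = 0 := by
    have h := SU_H (k : SU3) B.e B.e
    rw [he, B.he] at h
    simp [H_add_left, H_add_right hF, H_smul_left, H_smul_right, B.he, B.hf, B.hef, hfe hF B] at h
    linear_combination h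
  have r3 : Bc * D ^ q + D * Bc ^ q = 0 := by
    have h := SU_H (k : SU3) B.f B.f
    rw [hf, B.hf] at h
    simp [H_add_left, H_add_right hF, H_smul_left, H_smul_right, B.he, B.hf, B.hef, hfe hF B] at h
    linear_combination h
  obtain ⟨r, hr⟩ := exists_root hF r1 r2 r3
  have hns : ∀ s : F, ¬ (A - s = 0 ∧ Bc = 0 ∧ C = 0 ∧ D - s = 0) := fun s h => hk ⟨s, by
    rw [he, h.2.2.1, sub_eq_zero.1 h.1, zero_smul, add_zero], by
    rw [hf, h.2.1, sub_eq_zero.1 h.2.2.2, zero_smul, zero_add]⟩
  set r' := A + D - r with hr'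
  have hroot : ∀ s, (A - s) * (D - s) = Bc * C ↔ s = r ∨ s = r' := fun s => by
    constructor
    · intro hs
      have : (s - r) * (s - r') = 0 := by rw [hr']; linear_combination hs - hr
      rcases mul_eq_zero.1 this with h | h
      · exact Or.inl (sub_eq_zero.1 h)
      · exact Or.inr (sub_eq_zero.1 h)
    · rintro (rfl | rfl)
      · exact hr
      · rw [hr']; linear_combination hr
  have hvec : ∀ s, (A - s) * (D - s) = Bc * C → ∃ (u : Vec) (hu : u ≠ 0) (h : H u B.w = 0),
      mat (k : SU3) *ᵥ u = s • u ∧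
        ∀ x : Vec, H x B.w = 0 → mat (k : SU3) *ᵥ x = s • x → ∃ a : F, a • u = x := by
    intro s hs
    obtain ⟨α, β, hne, h1, h2⟩ : ∃ α β : F, (α ≠ 0 ∨ β ≠ 0) ∧ (A - s) * α + Bc * β = 0 ∧
        C * α + (D - s) * β = 0 := by
      by_cases h0 : A - s = 0 ∧ Bc = 0
      · refine ⟨D - s, -C, ?_, by rw [h0.1, h0.2]; ring, by ring⟩
        by_contra h
        push Not at h
        exact hns s ⟨h0.1, h0.2, neg_eq_zero.1 h.2, h.1⟩
      · refine ⟨Bc, -(A - s), ?_, by ring, by linear_combination -hs⟩
        by_contra h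
        push Not at h
        exact h0 ⟨neg_eq_zero.1 h.2, h.1⟩
    have hu : α • B.e + β • B.f ≠ 0 := fun h => by
      have c1 := congrArg (fun x => H x B.f) h
      have c2 := congrArg (fun x => H x B.e) h
      simp [H_add_left, H_smul_left, H_zero_left, B.he, B.hf, B.hef, hfe hF B] at c1 c2
      rcases hne with h' | h'
      exacts [h' c1, h' c2]
    refine ⟨_, hu, by simp [H_add_left, H_smul_left, hew hF B, hfw hF B],
      (lin_smul hF B k s α β).2 ⟨h1, h2⟩, fun x hxw hx => ?_⟩
    rw [plane_decomp hF B hxw] at hx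
    obtain ⟨g1, g2⟩ := (lin_smul hF B k s _ _).1 hx
    rw [← hA, ← hB] at g1
    rw [← hC, ← hD] at g2
    set a := H x B.f
    set b := H x B.e
    have hz : a * β = b * α := by
      by_contra hne'
      have hd : a * β - b * α ≠ 0 := sub_ne_zero.2 hne'
      refine hns s ⟨?_, ?_, ?_, ?_⟩ <;> refine (mul_eq_zero.1 ?_).resolve_right hd
      · linear_combination β * g1 - b * h1
      · linear_combination -α * g1 + a * h1
      · linear_combination β * g2 - b * h2
      · linear_combination -α * g2 + a * h2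
    rw [plane_decomp hF B hxw]
    rcases hne with h' | h'
    · refine ⟨a / α, ?_⟩
      rw [smul_add, smul_smul, smul_smul, div_mul_cancel₀ _ h', show a / α * β = b by
        field_simp; linear_combination hz]
    · refine ⟨b / β, ?_⟩
      rw [smul_add, smul_smul, smul_smul, div_mul_cancel₀ _ h', show b / β * α = a by
        field_simp; linear_combination -hz]
  choose u hu huw hus hun using hvec
  have hev : ∀ x : Vec, x ≠ 0 → H x B.w = 0 → ∀ s, mat (k : SU3) *ᵥ x = s • x →
      (A - s) * (D - s) = Bc * C := by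
    intro x hx0 hxw s hx
    rw [plane_decomp hF B hxw] at hx
    obtain ⟨g1, g2⟩ := (lin_smul hF B k s _ _).1 hx
    rw [← hA, ← hB] at g1
    rw [← hC, ← hD] at g2
    have e1 : ((A - s) * (D - s) - Bc * C) * H x B.f = 0 := by linear_combination (D - s) * g1 - Bc * g2
    have e2 : ((A - s) * (D - s) - Bc * C) * H x B.e = 0 := by linear_combination (A - s) * g2 - C * g1
    by_contra hne
    have hne' := sub_ne_zero.2 hne
    refine hx0 ?_
    rw [plane_decomp hF B hxw, (mul_eq_zero.1 e1).resolve_left hne',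
      (mul_eq_zero.1 e2).resolve_left hne', zero_smul, zero_smul, add_zero]
  let Φ : {s : F // (A - s) * (D - s) = Bc * C} → {l : PlanePt F q B.w // k • l = l} := fun s =>
    ⟨pl B.w (u s.1 s.2) (hu s.1 s.2) (huw s.1 s.2),
      (fixed_iff k _ _).2 ⟨s.1, hus s.1 s.2⟩⟩
  have hΦ : Function.Bijective Φ := by
    constructor
    · rintro ⟨s, hs⟩ ⟨t, ht⟩ hst
      have h' : pl B.w (u s hs) (hu s hs) (huw s hs) = pl B.w (u t ht) (hu t ht) (huw t ht) :=
        congrArg Subtype.val hst
      obtain ⟨a, ha⟩ := pl_eq_pl.1 h'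
      have h1 := hus s hs
      rw [← ha, Matrix.mulVec_smul, hus t ht, smul_comm a t] at h1
      refine Subtype.ext (smul_left_injective F ?_ h1).symm
      rw [ha]
      exact hu s hs
    · rintro ⟨l, hl⟩
      obtain ⟨x, hx0, hxw, rfl⟩ := exists_pl l
      obtain ⟨s, hs⟩ := (fixed_iff k hx0 hxw).1 hl
      have hs' := hev x hx0 hxw s hs
      refine ⟨⟨s, hs'⟩, Subtype.ext ?_⟩
      show pl B.w (u s hs') (hu s hs') (huw s hs') = pl B.w x hx0 hxw
      rw [pl_eq_pl]
      obtain ⟨a, ha⟩ := hun s hs' x hxw hs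
      have ha0 : a ≠ 0 := fun h => hx0 (by rw [← ha, h, zero_smul])
      exact ⟨a⁻¹, by rw [← ha, inv_smul_smul₀ ha0]⟩
  rw [← Nat.card_eq_of_bijective Φ hΦ, Nat.card_eq_fintype_card, Fintype.card_subtype,
    Finset.filter_congr fun s _ => hroot s,
    show (Finset.univ.filter fun s : F => s = r ∨ s = r') = {r, r'} by ext; simp]
  by_cases hrr : r = r'
  · right
    rw [← hrr, Finset.insert_eq_of_mem (Finset.mem_singleton_self r), Finset.card_singleton]
    have hru := hus r hr
    set w0 := u r hr with hw0def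
    have hw0w : H w0 B.w = 0 := huw r hr
    have hiso : H w0 w0 = 0 := by
      by_contra hani
      -- the orthogonal line is fixed as well
      set α := H w0 B.f with hα
      set β := H w0 B.e with hβ
      have hdec : w0 = α • B.e + β • B.f := plane_decomp hF B hw0w
      have hN : H w0 w0 = α * β ^ q + β * α ^ q := by
        conv_lhs => rw [hdec]
        simp [H_add_left, H_add_right hF, H_smul_left, H_smul_right, B.he, B.hf, B.hef, hfe hF B]
        ring
      set w1 := α ^ q • B.e + (-(β ^ q)) • B.f with hw1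
      have hperp : H w1 w0 = 0 := by
        rw [hw1, hdec]
        simp [H_add_left, H_neg_left, H_add_right hF, H_smul_left, H_smul_right, B.he, B.hf, B.hef, hfe hF B]
        ring
      have hw1w : H w1 B.w = 0 := by simp [hw1, H_add_left, H_neg_left, H_smul_left, hew hF B, hfw hF B]
      have hr0 : r ≠ 0 := fun h => mat_mulVec_ne_zero (k : SU3) (hu r hr)
        (by rw [← hw0def, hru, h, zero_smul])
      set w2 := mat (k : SU3) *ᵥ w1 with hw2
      have hw2w : H w2 B.w = 0 := perp_map k hw1w
      have hw2p : H w2 w0 = 0 := by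
        have h := SU_H (k : SU3) w1 w0
        rw [hru, H_smul_right, hperp] at h
        exact (mul_eq_zero.1 h).resolve_left (pow_ne_zero _ hr0)
      have hw1ne : w1 ≠ 0 := by
        intro h
        have c1 := congrArg (fun x => H x B.f) h
        have c2 := congrArg (fun x => H x B.e) h
        simp [hw1, H_add_left, H_neg_left, H_smul_left, H_zero_left, B.he, B.hf, B.hef, hfe hF B] at c1 c2
        exact hani (by rw [hN, c1.1, c2.1]; simp)
      -- `w2` is a multiple of `w1`
      have hw2' := hw2p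
      rw [plane_decomp hF B hw2w, hdec] at hw2'
      simp [H_add_left, H_neg_left, H_add_right hF, H_smul_left, H_smul_right, B.he, B.hf, B.hef, hfe hF B] at hw2'
      have heig : ∃ s : F, w2 = s • w1 := by
        rcases not_and_or.1 (fun h : α = 0 ∧ β = 0 => hani (by rw [hN, h.1, h.2]; simp)) with h0 | h0
        · refine ⟨H w2 B.f / α ^ q, ?_⟩
          conv_lhs => rw [plane_decomp hF B hw2w]
          rw [hw1, smul_add, smul_smul, smul_smul, div_mul_cancel₀ _ (pow_ne_zero _ h0),
            show H w2 B.e = H w2 B.f / α ^ q * -β ^ q by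
              field_simp [pow_ne_zero q h0]; linear_combination hw2']
        · refine ⟨-(H w2 B.e / β ^ q), ?_⟩
          conv_lhs => rw [plane_decomp hF B hw2w]
          rw [hw1, smul_add, smul_smul, smul_smul,
            show -(H w2 B.e / β ^ q) * -β ^ q = H w2 B.e by field_simp [pow_ne_zero q h0],
            show H w2 B.f = -(H w2 B.e / β ^ q) * α ^ q by
              field_simp [pow_ne_zero q h0]; linear_combination hw2']
      obtain ⟨s, hs⟩ := heig
      have hs' := hev w1 hw1ne hw1w s hs
      have hsr : s = r := by rcases (hroot s).1 hs' with h | h <;> simp [h, hrr]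
      subst hsr
      obtain ⟨a, ha⟩ := hun s hs' w1 hw1w hs
      have h := hperp
      rw [← ha, H_smul_left] at h
      rcases mul_eq_zero.1 h with h' | h'
      · exact hw1ne (by rw [← ha, h', zero_smul])
      · exact hani h'
    refine ⟨rfl, ?_, fun l hl => ?_⟩
    · -- the Jordan form
      obtain ⟨x, hxw, hs'⟩ : ∃ x : Vec, H x B.w = 0 ∧ mat (k : SU3) *ᵥ x ≠ r • x := by
        by_contra h
        push Not at h
        exact hk ⟨r, h _ (hew hF B), h _ (hfw hF B)⟩
      set y := mat (k : SU3) *ᵥ x - r • x with hy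
      have hyw : H y B.w = 0 := by
        rw [hy, H_sub_left, H_smul_left, perp_map k hxw, hxw, mul_zero, sub_zero]
      have hyeig : mat (k : SU3) *ᵥ y = r • y := by
        have hdec : x = H x B.f • B.e + H x B.e • B.f := plane_decomp hF B hxw
        generalize H x B.f = α at hdec
        generalize H x B.e = β at hdec
        have hsum : r + r = A + D := by rw [hr'] at hrr; linear_combination hrr
        have E1 : A * (α * A + β * Bc) + Bc * (α * C + β * D) - r * (α * A + β * Bc) -
            r * (α * A + β * Bc - r * α) = 0 := by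
          linear_combination -α * hr + (-(α * (A - r)) - β * Bc) * hsum
        have E2 : C * (α * A + β * Bc) + D * (α * C + β * D) - r * (α * C + β * D) -
            r * (α * C + β * D - r * β) = 0 := by
          linear_combination -β * hr + (-(β * (D - r)) - α * C) * hsum
        have g1 := congrArg (fun c : F => c • B.e) E1
        have g2 := congrArg (fun c : F => c • B.f) E2
        simp only [zero_smul] at g1 g2
        rw [hy, hdec]
        simp only [Matrix.mulVec_add, Matrix.mulVec_sub, Matrix.mulVec_smul, he, hf]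
        linear_combination (norm := module) g1 + g2
      obtain ⟨c, hc⟩ := hun r hr y hyw hyeig
      have hpow := (plane_pow hF (k := (k : SU3)) (r := r) (c := c) (u := w0) (u' := x) hru
        (by rw [hc, hy]; abel) (orderOf k)).2
      have hcast : ((k : SU3)) ^ orderOf k = 1 := by
        rw [← Subgroup.coe_pow, pow_orderOf_eq_one]; rfl
      have hr1 : r ^ orderOf k = 1 := by
        have h := (plane_pow hF (k := (k : SU3)) (r := r) (c := c) (u := w0) (u' := x) hru
          (by rw [hc, hy]; abel) (orderOf k)).1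
        rw [hcast, mat_one, Matrix.one_mulVec] at h
        exact (smul_left_injective F (hu r hr) ((one_smul F w0).trans h)).symm
      rw [hcast, mat_one, Matrix.one_mulVec, hr1, one_smul, mul_one, eq_comm, add_eq_left,
        smul_eq_zero] at hpow
      have hc0 : c ≠ 0 := fun h => hs' (sub_eq_zero.1 (by rw [← hy, ← hc, h, zero_smul]))
      exact (CharP.cast_eq_zero_iff F p _).1
        ((mul_eq_zero.1 (hpow.resolve_right (hu r hr))).resolve_right hc0)
    · obtain ⟨x, hx0, hxw, rfl⟩ := exists_pl l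
      obtain ⟨s, hs⟩ := (fixed_iff k hx0 hxw).1 hl
      have hs' := hev x hx0 hxw s hs
      have hsr : s = r := by rcases (hroot s).1 hs' with h | h <;> simp [h, hrr]
      subst hsr
      obtain ⟨a, ha⟩ := hun s hs' x hxw hs
      show H (Projectivization.mk F x hx0).rep (Projectivization.mk F x hx0).rep = 0
      obtain ⟨b, -, hb⟩ := rep_mk x hx0
      rw [hb, ← ha, smul_smul, UnitaryCount.hermForm_smul_smul, hiso, mul_zero]
  · left
    rw [Finset.card_pair hrr]

/-- Isotropic lines of the plane. -/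
theorem card_iso : Nat.card {l : PlanePt F q B.w // H l.1.rep l.1.rep = 0} = q + 1 := by
  classical
  let τs := {c : F // c + c ^ q = 0}
  have hvec : ∀ c : τs, (c.1 • B.e + B.f) ≠ 0 := fun c h => by
    have := congrArg (fun x => H x B.e) h
    simp [H_add_left, H_smul_left, H_zero_left, B.he, hfe hF B] at this
  have hperp : ∀ c : τs, H (c.1 • B.e + B.f) B.w = 0 := fun c => by
    simp [H_add_left, H_smul_left, hew hF B, hfw hF B]
  have hisoc : ∀ c : τs, H (c.1 • B.e + B.f) (c.1 • B.e + B.f) = 0 := fun c => by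
    simp [H_add_left, H_add_right hF, H_smul_left, H_smul_right, B.he, B.hf, B.hef, hfe hF B]
    linear_combination c.2
  have hisopl : ∀ {x : Vec} (hx0 : x ≠ 0) (hxw : H x B.w = 0), H x x = 0 →
      H (pl (q := q) B.w x hx0 hxw).1.rep (pl (q := q) B.w x hx0 hxw).1.rep = 0 :=
    fun hx0 hxw h => mk_iso hx0 h
  let Φ : Option τs → {l : PlanePt F q B.w // H l.1.rep l.1.rep = 0} := fun o =>
    match o with
    | none => ⟨pl B.w B.e (e_ne B) (hew hF B), hisopl _ _ B.he⟩
    | some c => ⟨pl B.w _ (hvec c) (hperp c), hisopl _ _ (hisoc c)⟩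
  have hΦ : Function.Bijective Φ := by
    constructor
    · rintro (_ | c) (_ | d) h
      · rfl
      · have h' : pl B.w B.e (e_ne B) (hew hF B) = pl B.w _ (hvec d) (hperp d) := congrArg Subtype.val h
        obtain ⟨a, ha⟩ := pl_eq_pl.1 h'
        have h1 := congrArg (fun x => H x B.e) ha
        have h2 := congrArg (fun x => H x B.f) ha
        simp [H_add_left, H_smul_left, B.he, B.hf, B.hef, hfe hF B] at h1 h2
        rw [h1, zero_mul] at h2
        exact absurd h2 zero_ne_one
      · have h' : pl B.w _ (hvec c) (hperp c) = pl B.w B.e (e_ne B) (hew hF B) := congrArg Subtype.val h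
        obtain ⟨a, ha⟩ := pl_eq_pl.1 h'
        have h1 := congrArg (fun x => H x B.e) ha
        simp [H_add_left, H_smul_left, B.he, hfe hF B] at h1
      · have h' : pl B.w _ (hvec c) (hperp c) = pl B.w _ (hvec d) (hperp d) := congrArg Subtype.val h
        obtain ⟨a, ha⟩ := pl_eq_pl.1 h'
        have h1 := congrArg (fun x => H x B.e) ha
        have h2 := congrArg (fun x => H x B.f) ha
        simp [H_add_left, H_smul_left, B.he, B.hf, B.hef, hfe hF B] at h1 h2
        rw [h1, one_mul] at h2
        exact congrArg some (Subtype.ext h2.symm)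
    · rintro ⟨l, hl⟩
      obtain ⟨x, hx0, hxw, rfl⟩ := exists_pl l
      have hdec := plane_decomp hF B hxw
      have hxx : H x x = 0 := by
        obtain ⟨a, ha0, ha⟩ := rep_mk x hx0
        have h : H (Projectivization.mk F x hx0).rep (Projectivization.mk F x hx0).rep = 0 := hl
        rw [ha, UnitaryCount.hermForm_smul_smul] at h
        exact (mul_eq_zero.1 h).resolve_left (pow_ne_zero _ ha0)
      by_cases hb : H x B.e = 0
      · refine ⟨none, Subtype.ext ?_⟩
        show pl B.w B.e (e_ne B) (hew hF B) = pl B.w x hx0 hxw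
        refine pl_eq_pl.2 ⟨(H x B.f)⁻¹, ?_⟩
        rw [hb, zero_smul, add_zero] at hdec
        have ha0 : H x B.f ≠ 0 := fun h => hx0 (by rw [hdec, h, zero_smul])
        generalize H x B.f = a at hdec ha0 ⊢
        rw [hdec, smul_smul, inv_mul_cancel₀ ha0, one_smul]
      · set a := H x B.f
        set b := H x B.e
        rw [hdec] at hxx
        simp [H_add_left, H_add_right hF, H_smul_left, H_smul_right, B.he, B.hf, B.hef, hfe hF B] at hxx
        have hbq : b ^ q ≠ 0 := pow_ne_zero _ hb
        have hc : a / b + (a / b) ^ q = 0 := by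
          rw [div_pow]; field_simp; linear_combination hxx
        refine ⟨some ⟨a / b, hc⟩, Subtype.ext ?_⟩
        show pl B.w _ (hvec ⟨a / b, hc⟩) (hperp ⟨a / b, hc⟩) = pl B.w x hx0 hxw
        refine pl_eq_pl.2 ⟨b⁻¹, ?_⟩
        conv_lhs => rw [hdec]
        show _ = (a / b) • B.e + B.f
        rw [smul_add, smul_smul, smul_smul, inv_mul_cancel₀ hb, one_smul, ← div_eq_inv_mul]
  rw [← Nat.card_eq_of_bijective Φ hΦ, Finite.card_option]
  congr 1
  -- the kernel of the trace
  let T : F →+ F := AddMonoidHom.id F + (HermStd.qHom hF).toAddMonoidHom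
  have hker : Nat.card τs = Nat.card T.ker :=
    Nat.card_congr (Equiv.subtypeEquivRight fun c => by simp [T, HermStd.qHom_apply])
  have hrange : (T.range : Set F) = (fixField hF : Set F) := by
    ext x
    simp only [AddMonoidHom.coe_range, Set.mem_range, SetLike.mem_coe, mem_fixField]
    constructor
    · rintro ⟨y, rfl⟩
      simp [T, HermStd.qHom_apply, HermStd.add_pow_q hF, pow_qq hF, add_comm]
    · intro hx
      obtain ⟨y, hy⟩ := exists_trace_eq hF hx
      exact ⟨y, by simp [T, HermStd.qHom_apply, hy]⟩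
  have hcr : Nat.card T.range = q :=
    (Nat.card_congr (Equiv.setCongr hrange)).trans (natCard_fixField hF)
  have := T.ker.card_mul_index
  rw [AddSubgroup.index_ker, hcr, Nat.card_eq_fintype_card (α := F), hF, pow_two] at this
  rw [hker]
  exact Nat.eq_of_mul_eq_mul_right (Nat.pos_of_ne_zero (q_ne_zero hF)) this

end Fixed

end Cfsg.Agent.SimpleFacts.MinIndexPSUThree.Plane
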