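import Cfsg.Agent.SimpleFacts.MinIndexPSUThree.Sub

/-!
# Elements of large prime order in subgroups larger than a point stabiliser
-/

set_option autoImplicit false
set_option linter.unusedSectionVars false
set_option linter.unusedSimpArgs false

namespace Cfsg.Agent.SimpleFacts.MinIndexPSUThree.Primes

open Matrix Cfsg.Agent.Classical Cfsg.Agent.Classical.Unitary Cfsg.Agent.Forms
open Cfsg.Agent.SimpleFacts.MinIndexPSUThree.Borel
open Cfsg.Agent.SimpleFacts.MinIndexPSUThree.Plane
open Cfsg.Agent.SimpleFacts.MinIndexPSUThree.Group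
open Cfsg.Agent.SimpleFacts.MinIndexPSUThree.Sub

universe u

section Abstract

/-- A permutation of prime order of a set with fewer elements is trivial there. -/
theorem fix_small {G X : Type*} [Group G] [MulAction G X] {r : ℕ} (hr : r.Prime) {g : G}
    (hg : g ^ r = 1) (T : Set X) (hfin : T.Finite) (hlt : T.ncard < r)
    (hinv : ∀ y ∈ T, g • y ∈ T) {y : X} (hy : y ∈ T) : g • y = y := by
  classical
  have : Finite T := hfin.to_subtype
  let φ : T → T := fun z => ⟨g • z.1, hinv z.1 z.2⟩
  have hφ : Function.Bijective φ :=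
    Finite.injective_iff_bijective.1 fun a b h =>
      Subtype.ext (MulAction.injective g (congrArg Subtype.val h :))
  let σ : Equiv.Perm T := Equiv.ofBijective φ hφ
  have hpow : ∀ (n : ℕ) (z : T), ((σ ^ n) z : X) = g ^ n • (z : X) := by
    intro n
    induction n with
    | zero => intro z; simp
    | succ n ih =>
      intro z
      rw [pow_succ', Equiv.Perm.mul_apply, pow_succ', mul_smul, ← ih z]
      rfl
  have hσr : σ ^ r = 1 := Equiv.ext fun z => Subtype.ext (by rw [hpow, hg, one_smul]; rfl)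
  have h1 : σ = 1 := by
    rcases (Nat.dvd_prime hr).1 (orderOf_dvd_of_pow_eq_one hσr) with h | h
    · exact orderOf_eq_one_iff.1 h
    · exfalso
      have hd := orderOf_dvd_natCard σ
      rw [h, Nat.card_perm, hr.dvd_factorial, Nat.card_coe_set_eq] at hd
      omega
  have h2 := hpow 1 ⟨y, hy⟩
  rw [pow_one, pow_one, h1] at h2
  exact h2.symm

/-- A Sylow subgroup of prime order `r`. -/
theorem sylow_data {G : Type*} [Group G] [Finite G] {r c : ℕ} (hr : r.Prime)
    (hG : Nat.card G = r * c) (hc : ¬ r ∣ c) :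
    ∃ g : G, orderOf g = r ∧ ∃ n : ℕ, n ∣ c ∧ n % r = 1 ∧
      Nat.card (Subgroup.normalizer (Subgroup.zpowers g : Set G)) * n = r * c := by
  classical
  have : Fact r.Prime := ⟨hr⟩
  obtain ⟨g, hg⟩ := exists_prime_orderOf_dvd_card' r (hG ▸ dvd_mul_right r c)
  have hc0 : c ≠ 0 := fun h => hc (h ▸ dvd_zero r)
  have hfac : (Nat.card G).factorization r = 1 := by
    rw [hG, Nat.factorization_mul hr.ne_zero hc0, Finsupp.add_apply, hr.factorization_self,
      Nat.factorization_eq_zero_of_not_dvd hc]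
  let P : Sylow r G := Sylow.ofCard (Subgroup.zpowers g) (by rw [Nat.card_zpowers, hg, hfac, pow_one])
  refine ⟨g, hg, (Subgroup.normalizer ((P : Subgroup G) : Set G)).index, ?_, ?_, ?_⟩
  · have h1 : Subgroup.zpowers g ≤ Subgroup.normalizer ((P : Subgroup G) : Set G) := Subgroup.le_normalizer
    have h2 := Subgroup.index_dvd_of_le h1
    have h3 : (Subgroup.zpowers g).index = c := by
      have := (Subgroup.zpowers g).card_mul_index
      rw [Nat.card_zpowers, hg, hG] at this
      exact Nat.eq_of_mul_eq_mul_left hr.pos this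
    rwa [h3] at h2
  · show (Subgroup.normalizer (P : Set G)).index % r = 1
    rw [← P.card_eq_index_normalizer, card_sylow_modEq_one r G]
    exact Nat.one_mod_eq_one.2 hr.one_lt.ne'
  · rw [← hG]
    exact Subgroup.card_mul_index _

end Abstract

variable {F : Type u} [Field F] [Fintype F] {q : ℕ} (hF : Fintype.card F = q ^ 2)

local notation "Vec" => (Fin 3 → F)
local notation "H" => Cfsg.hermForm 3 F q
local notation "SU3" => Cfsg.SU 3 F q
local notation "Pt" => IsoPt F q 3

include hF

/-- An involution of `SU₃(q)`, `q` odd, fixes between one and `q + 1` points. -/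
theorem invol_fixed (hq : Odd q) {t : SU3} (ht : t ≠ 1) (ht2 : t * t = 1) :
    {y : Pt | t • y = y}.Nonempty ∧ {y : Pt | t • y = y}.ncard ≤ q + 1 := by
  classical
  obtain ⟨v, hv, rfl⟩ := UnitaryThreeReflection.exists_refl hF hq t ht ht2
  obtain ⟨B, hB⟩ := exists_frame_unit hF hv
  have hperp : ∀ x : Vec, H x v = 0 → mat (UnitaryThreeReflection.refl hF hv) *ᵥ x = (-1 : F) • x :=
    fun x hx => by
      rw [UnitaryThreeReflection.refl_mulVec hF, hx, mul_zero, zero_smul, add_zero, neg_one_smul]
  refine ⟨⟨pt B.e (e_ne B) B.he, ?_⟩, ?_⟩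
  · show _ • _ = _
    rw [smul_pt, pt_eq_pt]
    exact ⟨-1, (hperp _ (hB ▸ hew hF B)).symm⟩
  · have hsub : ∀ y ∈ {y : Pt | UnitaryThreeReflection.refl hF hv • y = y}, H y.1.rep B.w = 0 := by
      intro y hy
      obtain ⟨x, hx0, hxx, rfl⟩ := exists_pt y
      rw [Set.mem_ofPred_eq, smul_pt, pt_eq_pt] at hy
      obtain ⟨a, ha⟩ := hy
      refine mk_perp hx0 ?_
      rw [hB]
      by_contra hne
      rw [UnitaryThreeReflection.refl_mulVec hF] at ha
      have h1 : (2 * H x v) • v = (a + 1) • x := by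
        linear_combination (norm := module) -ha
      have h2 := congrArg (fun y => H y y) h1
      simp only [UnitaryCount.hermForm_smul_smul, hxx, hv, mul_zero, mul_one] at h2
      exact mul_ne_zero (UnitaryThreeReflection.two_ne hF hq) hne
        (pow_eq_zero_iff (Nat.succ_ne_zero q) |>.1 h2)
    rw [← card_iso hF B, ← Nat.card_coe_set_eq]
    exact Nat.card_le_card_of_injective
      (fun y : {y : Pt | UnitaryThreeReflection.refl hF hv • y = y} =>
        (⟨⟨y.1.1, hsub y.1 y.2⟩, y.1.2⟩ : {l : PlanePt F q B.w // H l.1.rep l.1.rep = 0}))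
      fun a b h => Subtype.ext (Subtype.ext (congrArg (fun z => z.1.1) h :))

variable (p : ℕ) [Fact p.Prime] [CharP F p] {K : Subgroup (Cfsg.SU 3 F q)}
  (hbig : q ^ 3 * (q ^ 2 - 1) < Nat.card K)

include p hbig

/-- All point stabilisers have the same order. -/
theorem card_Stab_eq (B B' : Frame F q) : Nat.card (Stab K B) = Nat.card (Stab K B') := by
  have h1 := card_eq K B hF p hbig
  have h2 := card_eq K B' hF p hbig
  rw [← card_Stab] at h1 h2
  exact Nat.eq_of_mul_eq_mul_left (by omega) (h1.symm.trans h2)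

/-- An element of prime order `r` not dividing the stabiliser order fixes no point. -/
theorem no_fixed (B : Frame F q) {r : ℕ} {g : SU3} (hgK : g ∈ K) (hg : orderOf g = r)
    (hr : ¬ r ∣ Nat.card (Stab K B)) (y : Pt) : g • y ≠ y := by
  intro hy
  obtain ⟨x, hx0, hxx, rfl⟩ := exists_pt y
  obtain ⟨B', rfl⟩ := exists_frame hF hxx hx0
  have hmem : g ∈ Stab K B' := ⟨hgK, (mem_fixLine_iff hx0 hxx).2 hy⟩
  refine hr ?_
  rw [card_Stab_eq hF p hbig B B', ← hg, ← Subgroup.orderOf_mk g hmem]
  exact orderOf_dvd_natCard _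

/-- It commutes with no nontrivial element fixing `e`. -/
theorem not_commute (B : Frame F q) {r : ℕ} {g : SU3} (hgK : g ∈ K) (hg : orderOf g = r)
    (hr : ¬ r ∣ Nat.card (Stab K B)) {u : SU3} (hu : u ∈ Ue F q B.e) (hu1 : u ≠ 1) :
    u * g ≠ g * u := by
  intro h
  set x : Pt := pt B.e (e_ne B) B.he
  refine no_fixed hF p hbig B hgK hg hr x ((fixes_unique (p := p) hF B hu hu1 _).1 ?_)
  rw [← mul_smul, h, mul_smul, (fixes_unique (p := p) hF B hu hu1 x).2 rfl]

/-- A normal subgroup of prime order forces the unipotent part into a small automorphism group. -/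
theorem not_normal (B : Frame F q) {r : ℕ} (hrp : r.Prime) {g : K} (hg : orderOf g = r)
    (hr : ¬ r ∣ Nat.card (Stab K B)) (hQ : ¬ Nat.card ↥(K ⊓ Ue F q B.e) ∣ r - 1)
    (hnorm : Subgroup.normalizer (Subgroup.zpowers g : Set K) = ⊤) : False := by
  let R : Subgroup K := (Ue F q B.e).subgroupOf K
  have hR : Nat.card R = Nat.card ↥(K ⊓ Ue F q B.e) := Nat.card_congr
    { toFun := fun u => ⟨u.1.1, u.1.2, u.2⟩
      invFun := fun u => ⟨⟨u.1, u.2.1⟩, u.2.2⟩
      left_inv := fun u => rfl
      right_inv := fun u => rfl }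
  obtain ⟨u, hu, hu1, huc⟩ := Orbits.exists_commute hrp hg R (fun u _ => by
    have h : u ∈ Subgroup.normalizer (Subgroup.zpowers g : Set K) := hnorm ▸ Subgroup.mem_top u
    exact (Subgroup.mem_normalizer_iff.1 h g).1 (Subgroup.mem_zpowers g)) (hR ▸ hQ)
  exact not_commute hF p hbig B g.2 ((Subgroup.orderOf_coe g).trans hg) hr hu
    (fun h => hu1 (Subtype.ext h)) (congrArg Subtype.val huc)

end Cfsg.Agent.SimpleFacts.MinIndexPSUThree.Primes
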