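import Cfsg.Agent.SimpleFacts.MinIndexPSUThree.Group
import Cfsg.Agent.SimpleFacts.MinIndexPSUThree.Orbits

/-!
# Subgroups of `SU₃(q)` of order larger than a point stabiliser
-/

set_option autoImplicit false
set_option linter.unusedSectionVars false
set_option linter.unusedSimpArgs false

namespace Cfsg.Agent.SimpleFacts.MinIndexPSUThree.Sub

open Matrix Cfsg.Agent.Classical Cfsg.Agent.Classical.Unitary Cfsg.Agent.Forms
open Cfsg.Agent.SimpleFacts.MinIndexPSUThree.Borel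
open Cfsg.Agent.SimpleFacts.MinIndexPSUThree.Plane
open Cfsg.Agent.SimpleFacts.MinIndexPSUThree.Group

universe u

variable {F : Type u} [Field F] [Fintype F] {q : ℕ}

local notation "Vec" => (Fin 3 → F)
local notation "H" => Cfsg.hermForm 3 F q
local notation "SU3" => Cfsg.SU 3 F q
local notation "Pt" => IsoPt F q 3

/-- The stabiliser in `K` of the point of a frame. -/
def Stab (K : Subgroup (Cfsg.SU 3 F q)) (B : Frame F q) : Subgroup (Cfsg.SU 3 F q) :=
  K ⊓ fixLine F q B.e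

/-- The scalars of the stabiliser. -/
noncomputable def coefK (K : Subgroup (Cfsg.SU 3 F q)) (B : Frame F q) : Stab K B →* Fˣ :=
  (coef B).comp (Subgroup.inclusion inf_le_right)

/-- The group of scalars. -/
noncomputable def Cs (K : Subgroup (Cfsg.SU 3 F q)) (B : Frame F q) : Subgroup Fˣ :=
  (coefK K B).range

variable (K : Subgroup (Cfsg.SU 3 F q)) (B : Frame F q)

theorem coefK_spec (k : Stab K B) : mat (k : SU3) *ᵥ B.e = (coefK K B k : F) • B.e :=
  coef_spec B (Subgroup.inclusion inf_le_right k)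

theorem mem_Stab {k : SU3} (hk : k ∈ K) {a : F} (h : mat k *ᵥ B.e = a • B.e) : k ∈ Stab K B :=
  ⟨hk, a, fun h0 => mat_mulVec_ne_zero k (e_ne B) (by rw [h, h0, zero_smul]), h⟩

theorem exists_of_mem_Cs {a : Fˣ} (ha : a ∈ Cs K B) :
    ∃ k ∈ K, mat k *ᵥ B.e = (a : F) • B.e := by
  obtain ⟨k, rfl⟩ := ha
  exact ⟨k, k.2.1, coefK_spec K B k⟩

theorem mem_Cs {k : SU3} (hk : k ∈ K) {a : Fˣ} (h : mat k *ᵥ B.e = (a : F) • B.e) : a ∈ Cs K B :=
  ⟨⟨k, mem_Stab K B hk h⟩, Units.ext (coef_eq B _ h)⟩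

theorem card_Stab : Nat.card (Stab K B) = Nat.card ↥(K ⊓ Ue F q B.e) * Nat.card (Cs K B) := by
  rw [← (coefK K B).ker.card_mul_index, Subgroup.index_ker]
  congr 1
  refine Nat.card_congr
    { toFun := fun u => ⟨u.1.1, u.1.2.1, (ker_coef B _).1 u.2⟩
      invFun := fun u => ⟨⟨u.1, u.2.1, Ue_le_fixLine _ u.2.2⟩, (ker_coef B _).2 u.2.2⟩
      left_inv := fun u => rfl
      right_inv := fun u => rfl }

variable (hF : Fintype.card F = q ^ 2)

include hF

/-- The coordinates of the elements of `K` fixing `e`. -/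
def Vs : AddSubgroup F where
  carrier := {x | ∃ u ∈ K ⊓ Ue F q B.e, phi B u = x}
  zero_mem' := ⟨1, one_mem _, phi_one hF B⟩
  add_mem' := by
    rintro x y ⟨u, hu, rfl⟩ ⟨v, hv, rfl⟩
    exact ⟨u * v, mul_mem hu hv, phi_mul hF B hu.2 hv.2⟩
  neg_mem' := by
    rintro x ⟨u, hu, rfl⟩
    refine ⟨u⁻¹, inv_mem hu, ?_⟩
    have h := phi_mul hF B ((Ue F q B.e).inv_mem hu.2) hu.2
    rw [inv_mul_cancel, phi_one hF B] at h
    linear_combination -h

theorem card_Qs : Nat.card ↥(K ⊓ Ue F q B.e) =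
    Nat.card ↥(K ⊓ Zg F q B.e) * Nat.card (Vs K B hF) := by
  let ψ : ↥(K ⊓ Ue F q B.e) →* Multiplicative F :=
    (phiHom hF B).comp (Subgroup.inclusion inf_le_right)
  rw [← ψ.ker.card_mul_index, Subgroup.index_ker]
  congr 1
  · refine Nat.card_congr
      { toFun := fun u => ⟨u.1.1, u.1.2.1, (phiHom_eq_one hF B _).1 u.2⟩
        invFun := fun u => ⟨⟨u.1, u.2.1, Zg_le_Ue _ u.2.2⟩, (phiHom_eq_one hF B _).2 u.2.2⟩
        left_inv := fun u => rfl
        right_inv := fun u => rfl }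
  · refine Nat.card_congr (Equiv.subtypeEquiv Multiplicative.toAdd fun x => ?_)
    constructor
    · rintro ⟨u, rfl⟩
      exact ⟨u, u.2, rfl⟩
    · rintro ⟨u, hu, hx⟩
      exact ⟨⟨u, hu⟩, Multiplicative.toAdd.injective hx⟩

variable (p : ℕ) [Fact p.Prime] [CharP F p]

theorem isPGroup_Ue : IsPGroup p (Ue F q B.e) := fun u => by
  obtain ⟨k, hk⟩ := pow_p (p := p) hF B u.2
  exact ⟨k, Subtype.ext hk⟩

theorem card_Qs_pow : ∃ i, Nat.card ↥(K ⊓ Ue F q B.e) = p ^ i :=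
  ((isPGroup_Ue B hF p).to_le inf_le_right).exists_card_eq

theorem card_Zs_pow : ∃ i, Nat.card ↥(K ⊓ Zg F q B.e) = p ^ i :=
  ((isPGroup_Ue B hF p).to_le (inf_le_right.trans (Zg_le_Ue _))).exists_card_eq

theorem card_Cs_dvd : Nat.card (Cs K B) ∣ q ^ 2 - 1 := by
  have h := Subgroup.card_subgroup_dvd_card (Cs K B)
  rwa [natCard_units_F hF, mul_comm, ← Nat.sq_sub_sq, one_pow] at h

omit p in
theorem card_Zs_le : Nat.card ↥(K ⊓ Zg F q B.e) ≤ q :=
  (Subgroup.card_le_of_le inf_le_right).trans (card_Zg hF B).le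

variable (hbig : q ^ 3 * (q ^ 2 - 1) < Nat.card K)

include p hbig

/-- Such a subgroup is transitive on points. -/
theorem transitive (x y : Pt) : ∃ k ∈ K, k • x = y := by
  classical
  have : Finite Pt := Nat.finite_of_card_ne_zero (by rw [card_isoPt hF]; omega)
  suffices h : ∃ k : K, k • x = y by
    obtain ⟨k, hk⟩ := h
    exact ⟨k, k.2, hk⟩
  by_cases hQ : ∀ B : Frame F q, ∃ u ∈ K ⊓ Ue F q B.e, u ≠ 1
  · refine Orbits.transitive_of_unique p (fun z => ?_) x y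
    obtain ⟨v, hv, hvv, rfl⟩ := exists_pt z
    obtain ⟨B, rfl⟩ := exists_frame hF hvv hv
    obtain ⟨u, hu, hu1⟩ := hQ B
    obtain ⟨k, hk⟩ := pow_p (p := p) hF B hu.2
    exact ⟨⟨u, hu.1⟩, ⟨k, Subtype.ext hk⟩, fun w => fixes_unique (p := p) hF B hu.2 hu1 w⟩
  · push Not at hQ
    obtain ⟨B, hB⟩ := hQ
    set z : Pt := pt B.e (e_ne B) B.he
    have hstab : Nat.card (MulAction.stabilizer K z) = Nat.card (Stab K B) := Nat.card_congr
      { toFun := fun k => ⟨k.1.1, k.1.2, (mem_fixLine_iff (e_ne B) B.he).2 k.2⟩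
        invFun := fun k => ⟨⟨k.1, k.2.1⟩, (mem_fixLine_iff (e_ne B) B.he).1 k.2.2⟩
        left_inv := fun k => rfl
        right_inv := fun k => rfl }
    have hbot : Nat.card ↥(K ⊓ Ue F q B.e) = 1 := by
      rw [Subgroup.card_eq_one, Subgroup.eq_bot_iff_forall]
      exact hB
    have h := (MulAction.stabilizer K z).card_mul_index
    rw [hstab, card_Stab, hbot, one_mul, MulAction.index_stabilizer] at h
    have hle : Nat.card (Cs K B) ≤ q ^ 2 - 1 :=
      Nat.le_of_dvd (by have := HermStd.one_lt_q hF; have : q < q ^ 2 := by nlinarith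
                        omega) (card_Cs_dvd K B hF)
    have horb : q ^ 3 < (MulAction.orbit K z).ncard := by
      by_contra hlt
      push Not at hlt
      have := Nat.mul_le_mul hle hlt
      rw [h] at this
      rw [mul_comm] at hbig
      omega
    have huniv : MulAction.orbit K z = Set.univ := by
      refine (Set.eq_univ_iff_ncard _).2 (le_antisymm (Set.ncard_le_card _) ?_)
      rw [card_isoPt hF]
      omega
    obtain ⟨a, ha⟩ : x ∈ MulAction.orbit K z := huniv ▸ Set.mem_univ x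
    obtain ⟨b, hb⟩ : y ∈ MulAction.orbit K z := huniv ▸ Set.mem_univ y
    refine ⟨b * a⁻¹, ?_⟩
    rw [← ha, ← hb]
    simp [mul_smul]

/-- The order of such a subgroup. -/
theorem card_eq : Nat.card K = (q ^ 3 + 1) * (Nat.card ↥(K ⊓ Ue F q B.e) * Nat.card (Cs K B)) := by
  set z : Pt := pt B.e (e_ne B) B.he
  have hstab : Nat.card (MulAction.stabilizer K z) = Nat.card (Stab K B) := Nat.card_congr
    { toFun := fun k => ⟨k.1.1, k.1.2, (mem_fixLine_iff (e_ne B) B.he).2 k.2⟩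
      invFun := fun k => ⟨⟨k.1, k.2.1⟩, (mem_fixLine_iff (e_ne B) B.he).1 k.2.2⟩
      left_inv := fun k => rfl
      right_inv := fun k => rfl }
  have htr : MulAction.IsPretransitive K Pt := ⟨fun x y => by
    obtain ⟨k, hk, hkx⟩ := transitive K hF p hbig x y
    exact ⟨⟨k, hk⟩, hkx⟩⟩
  rw [← (MulAction.stabilizer K z).card_mul_index, MulAction.index_stabilizer_of_transitive,
    card_isoPt hF, hstab, card_Stab, mul_comm]

theorem bound : q ^ 2 - 1 ≤ Nat.card ↥(K ⊓ Ue F q B.e) * Nat.card (Cs K B) := by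
  by_contra hlt
  push Not at hlt
  have h := hbig
  rw [card_eq K B hF p hbig] at h
  have h1 : (q ^ 3 + 1) * (Nat.card ↥(K ⊓ Ue F q B.e) * Nat.card (Cs K B)) + (q ^ 3 + 1) ≤
      (q ^ 3 + 1) * (q ^ 2 - 1) := by
    rw [← Nat.mul_succ]
    exact Nat.mul_le_mul_left _ hlt
  have hq := HermStd.one_lt_q hF
  have h3 : q ^ 2 ≤ q ^ 3 := Nat.pow_le_pow_right (by omega) (by norm_num)
  have h4 : (q ^ 3 + 1) * (q ^ 2 - 1) = q ^ 3 * (q ^ 2 - 1) + (q ^ 2 - 1) := by rw [Nat.succ_mul]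
  omega

/-- An element of `K` moving the point of one frame to that of another. -/
theorem exists_conj (B' : Frame F q) : ∃ k ∈ K, ∃ a : F, a ≠ 0 ∧ mat k *ᵥ B.e = a • B'.e := by
  obtain ⟨k, hk, hkx⟩ := transitive K hF p hbig (pt B.e (e_ne B) B.he) (pt B'.e (e_ne B') B'.he)
  rw [smul_pt, pt_eq_pt] at hkx
  obtain ⟨a, ha⟩ := hkx
  exact ⟨k, hk, a, fun h => mat_mulVec_ne_zero k (e_ne B) (by rw [← ha, h, zero_smul]), ha.symm⟩

omit hbig p in
theorem conj_mem {k u : SU3} {a : F} (ha : a ≠ 0) {e e' : Vec} (he : mat k *ᵥ e = a • e')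
    (hu : u ∈ Zg F q e) : k * u * k⁻¹ ∈ Zg F q e' := by
  have key : ∀ y : Vec, mat (k * u * k⁻¹) *ᵥ (mat k *ᵥ y) = mat k *ᵥ (mat u *ᵥ y) := fun y => by
    rw [← mul_mulVec, inv_mul_cancel_right, mul_mulVec]
  rw [mem_Zg] at hu ⊢
  refine ⟨?_, fun x hx => ?_⟩
  · have h := key e
    rw [hu.1, he, Matrix.mulVec_smul] at h
    exact smul_right_injective _ ha h
  · have hy : mat k *ᵥ (mat k⁻¹ *ᵥ x) = x := by
      rw [← mul_mulVec, mul_inv_cancel, mat_one, Matrix.one_mulVec]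
    have hye : H (mat k⁻¹ *ᵥ x) e = 0 := by
      rw [← SU_H k, hy, he, H_smul_right, hx, mul_zero]
    have h := key (mat k⁻¹ *ᵥ x)
    rw [hu.2 _ hye, hy] at h
    exact h

/-- All transvection subgroups of `K` have the same order. -/
theorem card_Zs_eq (B' : Frame F q) :
    Nat.card ↥(K ⊓ Zg F q B.e) = Nat.card ↥(K ⊓ Zg F q B'.e) := by
  obtain ⟨k, hk, a, ha, hka⟩ := exists_conj K B hF p hbig B'
  have hka' : mat k⁻¹ *ᵥ B'.e = a⁻¹ • B.e := by
    rw [eq_inv_smul_iff₀ ha, ← Matrix.mulVec_smul, ← hka, ← mul_mulVec, inv_mul_cancel, mat_one,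
      Matrix.one_mulVec]
  refine Nat.card_congr
    { toFun := fun u => ⟨k * u.1 * k⁻¹, K.mul_mem (K.mul_mem hk u.2.1) (K.inv_mem hk),
        conj_mem hF ha hka u.2.2⟩
      invFun := fun u => ⟨k⁻¹ * u.1 * k, K.mul_mem (K.mul_mem (K.inv_mem hk) u.2.1) hk, by
        have := conj_mem hF (inv_ne_zero ha) hka' u.2.2
        rwa [inv_inv] at this⟩
      left_inv := fun u => Subtype.ext (by show k⁻¹ * (k * u.1 * k⁻¹) * k = u.1; group)
      right_inv := fun u => Subtype.ext (by show k * (k⁻¹ * u.1 * k) * k⁻¹ = u.1; group) }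

end Cfsg.Agent.SimpleFacts.MinIndexPSUThree.Sub
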