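import Cfsg.Agent.SimpleFacts.MinIndexPSUThree.Sub
import Cfsg.Agent.SimpleFacts.MinIndexPSUThree.PlaneAction

/-!
# Nontrivial proper transvection subgroups: the order is two, or three with `q = 9`
-/

set_option autoImplicit false
set_option linter.unusedSectionVars false
set_option linter.unusedSimpArgs false
set_option linter.style.haveILetI false

namespace Cfsg.Agent.SimpleFacts.MinIndexPSUThree.Unipotent

open Matrix Cfsg.Agent.Classical Cfsg.Agent.Classical.Unitary Cfsg.Agent.Forms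
open Cfsg.Agent.SimpleFacts.MinIndexPSUThree.Borel
open Cfsg.Agent.SimpleFacts.MinIndexPSUThree.Plane
open Cfsg.Agent.SimpleFacts.MinIndexPSUThree.Group
open Cfsg.Agent.SimpleFacts.MinIndexPSUThree.Sub

universe u

/-- The preimage of a subgroup of the image. -/
theorem card_comap {G A : Type*} [Group G] [Group A] (ψ : G →* A) (T : Subgroup A)
    (hT : T ≤ ψ.range) : Nat.card (T.comap ψ) = Nat.card ψ.ker * Nat.card T := by
  let χ : T.comap ψ →* A := ψ.comp (T.comap ψ).subtype
  rw [← χ.ker.card_mul_index, Subgroup.index_ker]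
  congr 1
  · refine Nat.card_congr
      { toFun := fun k => ⟨k.1.1, k.2⟩
        invFun := fun k => ⟨⟨k.1, by rw [Subgroup.mem_comap, k.2]; exact one_mem T⟩, k.2⟩
        left_inv := fun k => rfl
        right_inv := fun k => rfl }
  · refine Nat.card_congr (Equiv.setCongr (Set.ext fun a => ?_))
    constructor
    · rintro ⟨k, rfl⟩; exact k.2
    · intro ha
      obtain ⟨k, hk⟩ := hT ha
      exact ⟨⟨k, by rw [Subgroup.mem_comap, hk]; exact ha⟩, hk⟩

variable {F : Type u} [Field F] [Fintype F] {q : ℕ} (hF : Fintype.card F = q ^ 2)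

local notation "Vec" => (Fin 3 → F)
local notation "H" => Cfsg.hermForm 3 F q
local notation "SU3" => Cfsg.SU 3 F q
local notation "Pt" => IsoPt F q 3

include hF

/-- An element fixing `w` and the line of `e`. -/
theorem stab_facts (B : Frame F q) {k : SU3} (hw : mat k *ᵥ B.w = B.w) {a : F}
    (ha : mat k *ᵥ B.e = a • B.e) :
    a ^ q = a ∧ mat k *ᵥ B.f = a⁻¹ • B.f + H (mat k *ᵥ B.f) B.f • B.e := by
  obtain ⟨ha0, h1, h2⟩ := triangular hF B ha
  rw [hw] at h1
  have e1 := congrArg (fun x => H x B.w) h1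
  simp [H_add_left, H_smul_left, B.hww, hew hF B] at e1
  have haq : a ^ q = a := by field_simp at e1; exact e1.symm
  refine ⟨haq, ?_⟩
  have hg : H (mat k *ᵥ B.f) B.w = 0 := by
    conv_lhs => rw [← hw]
    rw [SU_H, hfw hF B]
  rw [hg, zero_smul, add_zero, haq] at h2
  exact h2

variable (p : ℕ) [Fact p.Prime] [CharP F p]

/-- The dichotomy. -/
theorem z_cases (K : Subgroup SU3) (hbig : q ^ 3 * (q ^ 2 - 1) < Nat.card K) {f : ℕ} (hqf : q = p ^ f)
    (B : Frame F q) (h1 : 2 ≤ Nat.card ↥(K ⊓ Zg F q B.e))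
    (h2 : Nat.card ↥(K ⊓ Zg F q B.e) < q) :
    (p = 2 ∧ Nat.card ↥(K ⊓ Zg F q B.e) = 2) ∨ (Nat.card ↥(K ⊓ Zg F q B.e) = 3 ∧ q = 9) := by
  classical
  obtain ⟨i, hi⟩ := card_Zs_pow K B hF p
  set z := Nat.card ↥(K ⊓ Zg F q B.e) with hz
  let S : Subgroup SU3 := K ⊓ Ue F q B.w
  have hS : S ≤ fixLine F q B.w := inf_le_right.trans (Ue_le_fixLine _)
  let ψ : ↥(S ⊓ fixLine F q B.e) →* Fˣ := (coef B).comp (Subgroup.inclusion inf_le_right)
  have hψ : ∀ k : ↥(S ⊓ fixLine F q B.e), mat (k : SU3) *ᵥ B.e = (ψ k : F) • B.e := fun k =>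
    coef_spec B (Subgroup.inclusion inf_le_right k)
  have hψeq : ∀ (k : ↥(S ⊓ fixLine F q B.e)) {a : F}, mat (k : SU3) *ᵥ B.e = a • B.e → (ψ k : F) = a :=
    fun k _ h => coef_eq B (Subgroup.inclusion inf_le_right k) h
  have hker : Nat.card ψ.ker = z := by
    refine Nat.card_congr
      { toFun := fun k => ⟨k.1.1, k.1.2.1.1, ?_⟩
        invFun := fun u => ⟨⟨u.1, ⟨u.2.1, ?_⟩, Ue_le_fixLine _ (Zg_le_Ue _ u.2.2)⟩, ?_⟩
        left_inv := fun k => rfl
        right_inv := fun k => rfl }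
    · have he : mat (k.1.1 : SU3) *ᵥ B.e = B.e := (ker_coef B _).1 k.2
      refine (mem_Zg_iff hF B).2 ⟨he, ?_⟩
      rw [phi, show mat (k.1.1 : SU3) *ᵥ B.w = B.w from k.1.2.1.2, B.hwf]
    · exact (mem_Zg.1 u.2.2).2 _ B.hwe
    · exact (ker_coef B _).2 (Zg_le_Ue _ u.2.2)
  set A := ψ.range with hA
  let sq : A →* Fˣ := (powMonoidHom 2).comp A.subtype
  let A2 : Subgroup Fˣ := A ⊓ (powMonoidHom 2 : Fˣ →* Fˣ).ker
  set m := Nat.card A2 with hm
  have hmA : Nat.card sq.ker = m := Nat.card_congr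
    { toFun := fun a => ⟨a.1.1, a.1.2, a.2⟩
      invFun := fun a => ⟨⟨a.1, a.2.1⟩, a.2.2⟩
      left_inv := fun a => rfl
      right_inv := fun a => rfl }
  set e := Nat.card sq.range with he
  have hAcard : Nat.card A = e * m := by
    rw [← sq.ker.card_mul_index, Subgroup.index_ker, hmA, mul_comm]
  have hst : Nat.card ↥(S ⊓ fixLine F q B.e) = z * e * m := by
    rw [← ψ.ker.card_mul_index, Subgroup.index_ker, hker, ← hA, hAcard, mul_assoc]
  have hmpos : 0 < m := Nat.card_pos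
  have hepos : 1 ≤ e := Nat.card_pos
  -- a scalar is a square root of one
  have hA2 : ∀ (k : ↥(S ⊓ fixLine F q B.e)), (ψ k : F) ^ (q + 1) = 1 ↔ ψ k ∈ A2 := by
    intro k
    have hq := (stab_facts hF B k.2.1.2 (hψ k)).1
    rw [pow_succ, hq, ← pow_two]
    constructor
    · intro h; exact ⟨⟨k, rfl⟩, MonoidHom.mem_ker.2 (Units.ext (by simpa using h))⟩
    · intro h; simpa using congrArg Units.val (MonoidHom.mem_ker.1 h.2)
  -- scalar elements
  have hsc : Nat.card {k : S // Scalar B (k : SU3)} = m := by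
    have hfix : ∀ k : {k : S // Scalar B (k : SU3)}, (k.1 : SU3) ∈ S ⊓ fixLine F q B.e := fun k => by
      obtain ⟨r, hre, -⟩ := k.2
      exact ⟨k.1.2, r, fun h => mat_mulVec_ne_zero _ (e_ne B) (hre.trans (by rw [h, zero_smul])), hre⟩
    have hin : ∀ k : {k : S // Scalar B (k : SU3)}, ψ ⟨_, hfix k⟩ ∈ A2 := fun k => by
      refine (hA2 _).1 ?_
      obtain ⟨r, hre, hrf⟩ := k.2
      rw [hψeq ⟨_, hfix k⟩ hre]
      have h := SU_H (k.1 : SU3) B.e B.f
      rw [hre, hrf, H_smul_left, H_smul_right, B.hef, mul_one] at h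
      rw [pow_succ, mul_comm]; exact h
    refine Nat.card_eq_of_bijective (fun k => (⟨_, hin k⟩ : A2)) ⟨?_, ?_⟩
    · intro k k' h
      have hv : (ψ ⟨_, hfix k⟩ : F) = (ψ ⟨_, hfix k'⟩ : F) :=
        congrArg Units.val (congrArg Subtype.val h)
      obtain ⟨r, hre, hrf⟩ := k.2
      obtain ⟨r', hre', hrf'⟩ := k'.2
      rw [hψeq ⟨_, hfix k⟩ hre, hψeq ⟨_, hfix k'⟩ hre'] at hv
      subst hv
      refine Subtype.ext (Subtype.ext (Borel.ext hF B (hre.trans hre'.symm) (hrf.trans hrf'.symm) ?_))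
      rw [show mat (k.1 : SU3) *ᵥ B.w = B.w from k.1.2.2,
        show mat (k'.1 : SU3) *ᵥ B.w = B.w from k'.1.2.2]
    · rintro ⟨a, ha⟩
      by_cases ha1 : a = 1
      · subst ha1
        refine ⟨⟨1, 1, by simp [mat_one], by simp [mat_one]⟩, Subtype.ext (Units.ext ?_)⟩
        exact hψeq _ (a := 1) (by simp [mat_one])
      · obtain ⟨k, hk⟩ := ha.1
        obtain ⟨haq, hf⟩ := stab_facts hF B k.2.1.2 (hψ k)
        rw [hk] at haq hf
        have hsq : (a : F) * a = 1 := by
          have := congrArg Units.val (MonoidHom.mem_ker.1 ha.2)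
          simpa [pow_two] using this
        have hinv : (a : F)⁻¹ = a := inv_eq_of_mul_eq_one_right hsq
        rw [hinv] at hf
        have hp2 : Odd p := by
          rcases (Fact.out : p.Prime).eq_two_or_odd' with h | h
          · refine absurd ?_ ha1
            subst h
            refine Units.ext ?_
            have h0 : ((a : F) - 1) * ((a : F) - 1) = 0 := by
              have h2 : (2 : F) = 0 := CharTwo.two_eq_zero
              linear_combination hsq + (1 - (a : F)) * h2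
            rw [mul_self_eq_zero, sub_eq_zero] at h0
            rw [h0, Units.val_one]
          · exact h
        obtain ⟨t, ht⟩ := hp2
        have hap : (a : F) ^ p = a := by
          rw [ht, pow_succ, pow_mul, pow_two, hsq, one_pow, one_mul]
        have he' := hψ k
        rw [hk] at he'
        obtain ⟨g1, g2⟩ := plane_pow hF (k := (k : SU3)) (u := B.e) (u' := B.f) he' hf p
        rw [CharP.cast_eq_zero, zero_mul, zero_mul, zero_smul, add_zero] at g2
        have g3 := smul_right_injective Vec a.ne_zero g2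
        rw [hap] at g1 g3
        refine ⟨⟨⟨(k : SU3) ^ p, pow_mem k.2.1 p⟩, a, g1, g3⟩, Subtype.ext (Units.ext ?_)⟩
        exact hψeq _ g1
  -- elements with one fixed line
  have hone : Nat.card {k : S // ¬ Scalar B (k : SU3) ∧
      ∃ a : F, mat (k : SU3) *ᵥ B.e = a • B.e ∧ a ^ (q + 1) = 1} = (z - 1) * m := by
    have hcm := card_comap ψ A2 inf_le_left
    rw [hker, ← hm] at hcm
    let Q : S → Prop := fun k => ∃ a : F, mat (k : SU3) *ᵥ B.e = a • B.e ∧ a ^ (q + 1) = 1
    have hQ : Nat.card {k : S // Q k} = z * m := by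
      rw [← hcm]
      refine Nat.card_congr
        { toFun := fun k => ⟨⟨k.1.1, k.1.2, ?_⟩, ?_⟩
          invFun := fun k => ⟨⟨k.1.1, k.1.2.1⟩, ?_⟩
          left_inv := fun k => rfl
          right_inv := fun k => rfl }
      · obtain ⟨a, ha, -⟩ := k.2
        exact ⟨a, fun h => mat_mulVec_ne_zero _ (e_ne B) (ha.trans (by rw [h, zero_smul])), ha⟩
      · obtain ⟨a, ha, hN⟩ := k.2
        refine Subgroup.mem_comap.2 ((hA2 _).1 ?_)
        rw [hψeq _ ha]; exact hN
      · exact ⟨_, hψ k.1, (hA2 k.1).2 k.2⟩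
    have hsQ : ∀ k : S, Scalar B (k : SU3) → Q k := by
      rintro k ⟨r, hre, hrf⟩
      refine ⟨r, hre, ?_⟩
      have h := SU_H (k : SU3) B.e B.f
      rw [hre, hrf, H_smul_left, H_smul_right, B.hef, mul_one] at h
      rw [pow_succ, mul_comm]; exact h
    have hsplit : Nat.card {k : S // ¬ Scalar B (k : SU3) ∧ Q k} + m = z * m := by
      rw [← hQ, ← hsc]
      simp only [Nat.card_eq_fintype_card, Fintype.card_subtype]
      rw [← Finset.card_union_of_disjoint]
      · congr 1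
        ext k
        simp only [Finset.mem_union, Finset.mem_filter, Finset.mem_univ, true_and]
        exact ⟨fun h => h.elim (fun h => h.2) (hsQ k),
          fun h => (em (Scalar B (k : SU3))).elim Or.inr fun h' => Or.inl ⟨h', h⟩⟩
      · rw [Finset.disjoint_filter]
        exact fun k _ h h' => h.1 h'
    rw [Nat.sub_mul, one_mul]
    exact Nat.eq_sub_of_add_eq hsplit
  -- transitivity on the isotropic lines of the plane
  let O' := {y : Pt // H y.1.rep B.w = 0}
  have hinv : ∀ (k : S) (y : Pt), H y.1.rep B.w = 0 → H ((k : SU3) • y).1.rep B.w = 0 := by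
    intro k y hy
    obtain ⟨a, -, ha⟩ := rep_mk (mat (k : SU3) *ᵥ y.1.rep) (mat_mulVec_ne_zero _ y.1.rep_nonzero)
    show H (Projectivization.mk F _ _).rep B.w = 0
    rw [ha, H_smul_left]
    conv_lhs => arg 2; rw [← show mat (k : SU3) *ᵥ B.w = B.w from k.2.2]
    rw [SU_H, hy, mul_zero]
  letI : MulAction S O' :=
    { smul := fun k y => ⟨(k : SU3) • y.1, hinv k y.1 y.2⟩
      one_smul := fun y => Subtype.ext (one_smul SU3 y.1)
      mul_smul := fun k l y => Subtype.ext (mul_smul (k : SU3) (l : SU3) y.1) }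
  have : Finite Pt := Nat.finite_of_card_ne_zero (by rw [card_isoPt hF]; omega)
  have hU : ∀ y : O', ∃ g : S, (∃ k : ℕ, g ^ p ^ k = 1) ∧ ∀ y' : O', g • y' = y' ↔ y' = y := by
    intro y
    obtain ⟨v, hv, hvv, hy⟩ := exists_pt y.1
    obtain ⟨B', rfl⟩ := exists_frame hF hvv hv
    obtain ⟨u, hu, hu1⟩ : ∃ u ∈ K ⊓ Zg F q B'.e, u ≠ 1 := by
      by_contra h
      push Not at h
      have : K ⊓ Zg F q B'.e = ⊥ := (Subgroup.eq_bot_iff_forall _).2 h
      have hz' := card_Zs_eq K B hF p hbig B'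
      rw [this, Subgroup.card_bot, ← hz] at hz'
      omega
    have hwy : H B.w B'.e = 0 := by
      refine (H_eq_zero_comm hF).1 ?_
      have h := y.2
      rw [← hy] at h
      obtain ⟨a, ha0, ha⟩ := rep_mk B'.e hv
      have h' : H (Projectivization.mk F B'.e hv).rep B.w = 0 := h
      rw [ha, H_smul_left] at h'
      exact (mul_eq_zero.1 h').resolve_left ha0
    obtain ⟨j, hj⟩ := pow_p (p := p) hF B' (Zg_le_Ue _ hu.2)
    refine ⟨⟨u, hu.1, (mem_Zg.1 hu.2).2 _ hwy⟩, ⟨j, Subtype.ext hj⟩, fun y' => ?_⟩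
    rw [Subtype.ext_iff, Subtype.ext_iff, ← hy]
    exact fixes_unique (p := p) hF B' (Zg_le_Ue _ hu.2) hu1 y'.1
  have htr : ∀ x : Vec, x ≠ 0 → H x B.w = 0 → H x x = 0 → ∃ k ∈ S, ∃ a : F, mat k *ᵥ B.e = a • x := by
    intro x hx0 hxw hxx
    let y0 : O' := ⟨pt B.e (e_ne B) B.he, mk_perp (e_ne B) (hew hF B)⟩
    let y : O' := ⟨pt x hx0 hxx, mk_perp hx0 hxw⟩
    obtain ⟨k, hk⟩ := Orbits.transitive_of_unique p hU y0 y
    refine ⟨k, k.2, ?_⟩
    have h : (k : SU3) • pt B.e (e_ne B) B.he = pt x hx0 hxx := congrArg Subtype.val hk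
    rw [smul_pt, pt_eq_pt] at h
    obtain ⟨a, ha⟩ := h
    exact ⟨a, ha.symm⟩
  -- the squares act semiregularly
  have hez : e + 1 ≤ z := by
    obtain ⟨u0, hu0, hu01⟩ : ∃ u ∈ K ⊓ Zg F q B.e, u ≠ 1 := by
      by_contra h
      push Not at h
      have : K ⊓ Zg F q B.e = ⊥ := (Subgroup.eq_bot_iff_forall _).2 h
      rw [hz, this, Subgroup.card_bot] at h1
      omega
    obtain ⟨hu0e, hu0p⟩ := (mem_Zg_iff hF B).1 hu0.2
    have ht0 : tau B u0 ≠ 0 := fun h => hu01 (unip_ext hF B hu0e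
      (show mat (1 : SU3) *ᵥ B.e = B.e by rw [mat_one, Matrix.one_mulVec])
      (by rw [hu0p, phi_one hF B]) (by rw [h, tau_one hF B]))
    have hex : ∀ s : sq.range, ∃ u : ↥(K ⊓ Zg F q B.e),
        tau B (u : SU3) = ((s : Fˣ) : F) * tau B u0 ∧ u ≠ 1 := by
      rintro ⟨s, ⟨a, ⟨k, rfl⟩⟩, rfl⟩
      have hq := (stab_facts hF B k.2.1.2 (hψ k)).1
      refine ⟨⟨(k : SU3) * u0 * (k : SU3)⁻¹, K.mul_mem (K.mul_mem k.2.1.1 hu0.1) (K.inv_mem k.2.1.1),
        conj_mem hF (ψ k).ne_zero (hψ k) hu0.2⟩, ?_, fun h => hu01 ?_⟩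
      · show tau B ((k : SU3) * u0 * (k : SU3)⁻¹) = _
        rw [tau_conj hF B (hψ k) hu0e hu0p, pow_succ, hq]
        simp [sq, pow_two]
      · have := congrArg Subtype.val h
        exact conj_eq_one_iff.1 this
    choose g hg hg1 using hex
    let G' : sq.range → {u : ↥(K ⊓ Zg F q B.e) // u ≠ 1} := fun s => ⟨g s, hg1 s⟩
    have hinj : Function.Injective G' := by
      intro s t h
      have h' : g s = g t := congrArg Subtype.val h
      have e1 := hg s
      rw [h', hg t] at e1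
      exact Subtype.ext (Units.ext (mul_right_cancel₀ ht0 e1).symm)
    have hle := Nat.card_le_card_of_injective _ hinj
    have hcard : Nat.card {u : ↥(K ⊓ Zg F q B.e) // u ≠ 1} + 1 = z := by
      rw [hz, Nat.card_eq_fintype_card, Nat.card_eq_fintype_card, Fintype.card_subtype]
      rw [show (Finset.univ.filter fun u : ↥(K ⊓ Zg F q B.e) => u ≠ 1) = Finset.univ.erase 1 by
        ext u; simp, Finset.card_erase_add_one (Finset.mem_univ _), Finset.card_univ]
    omega
  obtain ⟨o, ho, hoe⟩ := (PlaneAction.plane_count hF B p S hS hmpos (by omega) hepos htr hst hsc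
    hone).1 h1
  subst hqf
  have hi1 : 1 ≤ i := by
    rcases Nat.eq_zero_or_pos i with h | h
    · rw [h, pow_zero] at hi; omega
    · exact h
  have hif : i < f := by
    by_contra h
    push Not at h
    have := Nat.pow_le_pow_right (Fact.out : p.Prime).pos h
    omega
  rw [hi] at ho hoe hez ⊢
  exact Orbits.small_unipotent (Fact.out : p.Prime) hi1 hif hepos hez ho hoe

end Cfsg.Agent.SimpleFacts.MinIndexPSUThree.Unipotent
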